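import Cfsg.Agent.Lib.CharInt.Burnside
import Cfsg.Agent.Lib.Transfer.AbelianSylow
import Cfsg.Agent.Lib.SolvableTransitive.Main
import Mathlib.LinearAlgebra.Matrix.GeneralLinearGroup.Card
import Mathlib.GroupTheory.Sylow

/-!
# Odd order subgroups of `GL 6 2` are solvable
-/

set_option autoImplicit false
set_option linter.style.haveILetI false
set_option linter.unusedSectionVars false

namespace Cfsg.Agent.OddLinear

universe u

/-- A group of order dividing `3 ^ 4 * 7 ^ 2 * 31` is solvable. -/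
theorem solvable_of_dvd_aux {G : Type u} [Group G] [Finite G]
    (h : Nat.card G ∣ 3 ^ 4 * 7 ^ 2 * 31) : Group.IsSolvable G := by
  haveI : Fact (Nat.Prime 7) := ⟨by norm_num⟩
  obtain ⟨P⟩ : Nonempty (Sylow 7 G) := inferInstance
  have hdvd : Nat.card (Sylow 7 G) ∣ 3 ^ 4 * 7 ^ 2 * 31 :=
    (P.card_dvd_index.trans (Subgroup.index_dvd_card _)).trans h
  have hmod : Nat.card (Sylow 7 G) % 7 = 1 := card_sylow_modEq_one 7 G
  have h1 : Nat.card (Sylow 7 G) = 1 := by
    set m := Nat.card (Sylow 7 G)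
    have hcop : Nat.Coprime m (7 ^ 2) := by
      refine Nat.Coprime.pow_right _ ?_
      rw [Nat.coprime_comm, Nat.Prime.coprime_iff_not_dvd (by norm_num)]
      omega
    have hd2 : m ∣ 3 ^ 4 * 31 := hcop.dvd_of_dvd_mul_right (by
      rw [show 3 ^ 4 * 31 * 7 ^ 2 = 3 ^ 4 * 7 ^ 2 * 31 by norm_num]; exact hdvd)
    obtain ⟨a, b, ha, hb, hab⟩ := exists_dvd_and_dvd_of_dvd_mul hd2
    obtain ⟨i, hi, rfl⟩ := (Nat.dvd_prime_pow (by norm_num : Nat.Prime 3)).1 ha
    rcases (Nat.dvd_prime (by norm_num : Nat.Prime 31)).1 hb with rfl | rfl <;>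
      interval_cases i <;> norm_num at hab <;> omega
  haveI : Subsingleton (Sylow 7 G) := (Nat.card_eq_one_iff_unique.1 h1).1
  haveI : P.toSubgroup.Normal := Sylow.normal_of_subsingleton P
  have hPs : Group.IsSolvable ↥P.toSubgroup := by
    haveI := P.isPGroup'.isNilpotent
    infer_instance
  have hQ : Group.IsSolvable (G ⧸ P.toSubgroup) := by
    have hnd : ¬ 7 ∣ P.toSubgroup.index := P.not_dvd_index
    have hcard : Nat.card (G ⧸ P.toSubgroup) ∣ 3 ^ 4 * 31 := by
      rw [← Subgroup.index_eq_card]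
      refine Nat.Coprime.dvd_of_dvd_mul_right (n := 7 ^ 2) ?_ ?_
      · exact Nat.Coprime.pow_right _ ((Nat.coprime_comm).1
          ((Nat.Prime.coprime_iff_not_dvd (by norm_num)).2 hnd))
      · rw [show 3 ^ 4 * 31 * 7 ^ 2 = 3 ^ 4 * 7 ^ 2 * 31 by norm_num]
        exact (Subgroup.index_dvd_card _).trans h
    obtain ⟨a, ha⟩ : ∃ a b, a ∣ 3 ^ 4 ∧ b ∣ 31 ∧ Nat.card (G ⧸ P.toSubgroup) = a * b := by
      obtain ⟨a, b, h1, h2, h3⟩ := exists_dvd_and_dvd_of_dvd_mul hcard
      exact ⟨a, b, h1, h2, h3⟩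
    obtain ⟨b, ha', hb', hab⟩ := ha
    obtain ⟨i, -, rfl⟩ := (Nat.dvd_prime_pow (by norm_num : Nat.Prime 3)).1 ha'
    obtain ⟨j, -, rfl⟩ := (Nat.dvd_prime_pow (by norm_num : Nat.Prime 31)).1
      (show b ∣ 31 ^ 1 by rwa [pow_one])
    exact CharInt.isSolvable_of_card_eq (by norm_num) (by norm_num) hab
  exact Group.isSolvable_of_ker_le_range P.toSubgroup.subtype (QuotientGroup.mk' P.toSubgroup)
    (by rw [QuotientGroup.ker_mk', Subgroup.range_subtype])

/-- A group of order dividing `3 ^ 4 * 5 * 7 ^ 2 * 31` is solvable. -/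
theorem solvable_of_dvd {G : Type u} [Group G] [Finite G]
    (h : Nat.card G ∣ 3 ^ 4 * 5 * 7 ^ 2 * 31) : Group.IsSolvable G := by
  haveI : Fact (Nat.Prime 5) := ⟨by norm_num⟩
  by_cases h5 : 5 ∣ Nat.card G
  · obtain ⟨P⟩ : Nonempty (Sylow 5 G) := inferInstance
    have hk : Nat.card P = 5 ^ 1 := by
      obtain ⟨k, hk⟩ := IsPGroup.iff_card.1 P.isPGroup'
      have hdv : (5 : ℕ) ^ k ∣ 3 ^ 4 * 5 * 7 ^ 2 * 31 :=
        hk ▸ (Subgroup.card_subgroup_dvd_card P.toSubgroup).trans h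
      have h1 : 5 ∣ Nat.card P := P.dvd_card_of_dvd_card h5
      rcases k with _ | _ | k
      · rw [hk] at h1; norm_num at h1
      · exact hk
      · exfalso
        have : (5 : ℕ) ^ 2 ∣ 3 ^ 4 * 5 * 7 ^ 2 * 31 :=
          (pow_dvd_pow 5 (by omega)).trans hdv
        norm_num at this
    haveI : IsMulCommutative P := by
      haveI : IsCyclic P := isCyclic_of_prime_card (p := 5) (by rw [hk, pow_one])
      infer_instance
    obtain ⟨P', K, hK, hKc⟩ := Transfer.hasNormalPComplement_of_primes P 1 hk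
      fun q hq hq5 hqd j hj hdv => by
        obtain rfl : j = 0 := by omega
        norm_num at hdv
        have hle := Nat.le_of_dvd (by norm_num) hdv
        have h2 : ¬ 2 ∣ 3 ^ 4 * 5 * 7 ^ 2 * 31 := by norm_num
        rcases (show q = 0 ∨ q = 1 ∨ q = 2 ∨ q = 3 ∨ q = 4 by omega) with rfl | rfl | rfl | rfl | rfl
        · exact Nat.not_prime_zero hq
        · exact Nat.not_prime_one hq
        · exact h2 (hqd.trans h)
        · norm_num at hdv
        · norm_num at hq
    haveI := hK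
    have hmul := hKc.card_mul
    have hPc : Nat.card P'.toSubgroup = 5 := by
      rw [P'.card_eq_multiplicity, ← P.card_eq_multiplicity, hk, pow_one]
    have hKs : Group.IsSolvable ↥K := by
      refine solvable_of_dvd_aux ?_
      refine Nat.dvd_of_mul_dvd_mul_right (by norm_num : 0 < 5) ?_
      rw [show 3 ^ 4 * 7 ^ 2 * 31 * 5 = 3 ^ 4 * 5 * 7 ^ 2 * 31 by norm_num]
      refine (dvd_of_eq ?_).trans h
      first | (rw [← hmul, hPc]) | (rw [← hmul, hPc, mul_comm])
    have hQ : Group.IsSolvable (G ⧸ K) := by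
      haveI : IsCyclic (G ⧸ K) := isCyclic_of_prime_card (p := 5) (by
        rw [← Subgroup.index_eq_card]
        refine Nat.eq_of_mul_eq_mul_right (Nat.card_pos (α := ↥K)) ?_
        rw [Subgroup.index_mul_card, ← hPc]
        first | exact hmul.symm | (rw [← hmul, mul_comm]))
      letI := IsCyclic.commGroup (α := G ⧸ K)
      infer_instance
    exact Group.isSolvable_of_ker_le_range K.subtype (QuotientGroup.mk' K)
      (by rw [QuotientGroup.ker_mk', Subgroup.range_subtype])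
  · refine solvable_of_dvd_aux ?_
    refine Nat.Coprime.dvd_of_dvd_mul_left (m := 5) ?_ ?_
    · exact Nat.coprime_comm.1 ((Nat.Prime.coprime_iff_not_dvd (by norm_num)).2 h5)
    · rw [show 5 * (3 ^ 4 * 7 ^ 2 * 31) = 3 ^ 4 * 5 * 7 ^ 2 * 31 by norm_num]; exact h

/-- Odd order subgroups of `GL 6 2` are solvable. -/
theorem solvable_GL_six {G : Type u} [Group G] [Finite G] (hodd : Odd (Nat.card G))
    (ρ : G →* Matrix (Fin 6) (Fin 6) (ZMod 2)) (hρ : Function.Injective ρ) :
    Group.IsSolvable G := by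
  haveI : Fact (Nat.Prime 2) := ⟨Nat.prime_two⟩
  refine solvable_of_dvd ?_
  have h := Subgroup.card_dvd_of_injective ρ.toHomUnits fun a b e => hρ (congrArg Units.val e)
  have hc : Nat.card (GL (Fin 6) (ZMod 2)) = 2 ^ 15 * (3 ^ 4 * 5 * 7 ^ 2 * 31) := by
    rw [Matrix.card_GL_field]
    norm_num [Fin.prod_univ_six, ZMod.card, Fintype.card_fin]
  rw [show Nat.card (Matrix (Fin 6) (Fin 6) (ZMod 2))ˣ = _ from hc] at h
  exact (Nat.Coprime.pow_right _ (Nat.coprime_two_right.2 hodd)).dvd_of_dvd_mul_left h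

end Cfsg.Agent.OddLinear
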