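import Cfsg.Agent.Lib.OddLinear.Normal
import Cfsg.Agent.Lib.OddLinear.Six
import Cfsg.Agent.Lib.Zsigmondy.Basic
import Mathlib.Algebra.Module.ZMod
import Mathlib.LinearAlgebra.Matrix.ToLin

/-!
# Odd order groups transitive on the non-zero elements of an elementary abelian `2`-group

Such a group has an element `x` of order prime or one such that `⟨x⟩` is normal and the centraliser
of `x` is cyclic and fixed-point free; in particular it is metacyclic. No appeal to the
Feit--Thompson theorem.
-/

set_option autoImplicit false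
set_option linter.style.haveILetI false
set_option linter.unusedSectionVars false

namespace Cfsg.Agent.OddLinear

universe u v

theorem mem_zpowers_of_pow {C : Type u} [Group C] [Finite C] [IsCyclic C] {p : ℕ} (hp : p.Prime)
    {x y : C} (hx : orderOf x = p) (hy : y ^ p = 1) : y ∈ Subgroup.zpowers x := by
  classical
  haveI := Fintype.ofFinite C
  set T := Finset.univ.filter (fun z : C => z ^ p = 1)
  have hT : T.card ≤ p := IsCyclic.card_pow_eq_one_le hp.pos
  set Z := Finset.univ.filter (fun z : C => z ∈ Subgroup.zpowers x)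
  have hZT : Z ⊆ T := fun z hz => by
    obtain ⟨j, rfl⟩ := (Finset.mem_filter.1 hz).2
    refine Finset.mem_filter.2 ⟨Finset.mem_univ _, ?_⟩
    show (x ^ j) ^ p = 1
    rw [← zpow_natCast, zpow_comm, zpow_natCast, ← hx, pow_orderOf_eq_one, one_zpow]
  have hZc : Z.card = p := by
    rw [← Fintype.card_subtype, ← Nat.card_eq_fintype_card, Nat.card_zpowers, hx]
  have hyT : y ∈ T := Finset.mem_filter.2 ⟨Finset.mem_univ _, hy⟩
  rw [← Finset.eq_of_subset_of_card_le hZT (by rw [hZc]; exact hT)] at hyT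
  exact (Finset.mem_filter.1 hyT).2

/-- Elements of coprime order of a finite nilpotent group commute. -/
theorem commute_of_coprime {G : Type u} [Group G] [Finite G] [Group.IsNilpotent G] {a b : G}
    (h : (orderOf a).Coprime (orderOf b)) : Commute a b := by
  obtain ⟨e⟩ := ((Group.isNilpotent_of_finite_tfae (G := G)).out 0 4).mp (show Group.IsNilpotent G from inferInstance)
  apply e.symm.injective
  rw [map_mul, map_mul]
  funext q Q
  simp only [Pi.mul_apply]
  have := Fact.mk (Nat.prime_of_mem_primeFactors q.2)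
  have hkill : ∀ c : G, ¬ (q : ℕ) ∣ orderOf c → e.symm c q Q = 1 := by
    intro c hc
    obtain ⟨j, hj⟩ := (IsPGroup.iff_orderOf).mp Q.2 (e.symm c q Q)
    refine orderOf_eq_one_iff.mp (Nat.eq_one_of_dvd_coprimes
      (Nat.Coprime.pow_left j ((Nat.prime_of_mem_primeFactors q.2).coprime_iff_not_dvd.mpr hc)) hj.dvd ?_)
    refine orderOf_dvd_of_pow_eq_one ?_
    have := congrArg (fun f => f q Q) (congrArg e.symm (pow_orderOf_eq_one c))
    rw [map_pow, map_one] at this
    exact this
  by_cases hq : (q : ℕ) ∣ orderOf a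
  · rw [hkill b fun hy => (Nat.prime_of_mem_primeFactors q.2).ne_one (Nat.eq_one_of_dvd_coprimes h hq hy)]
    simp
  · rw [hkill a hq]; simp

/-- If every element normalises `⟨x⟩`, commutators centralise `x`. -/
theorem commute_commutator {G : Type u} [Group G] {x : G}
    (h : ∀ g : G, g⁻¹ * x * g ∈ Subgroup.zpowers x) (a b : G) :
    a * b * a⁻¹ * b⁻¹ * x = x * (a * b * a⁻¹ * b⁻¹) := by
  obtain ⟨i, hi⟩ := Subgroup.mem_zpowers_iff.1 (h a)
  obtain ⟨j, hj⟩ := Subgroup.mem_zpowers_iff.1 (h b)
  have e1 : (a * b)⁻¹ * x * (a * b) = x ^ (j * i) := by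
    rw [show (a * b)⁻¹ * x * (a * b) = b⁻¹ * (a⁻¹ * x * a) * b by group, ← hi]
    have : b⁻¹ * x ^ i * b = (b⁻¹ * x * b) ^ i := by
      simpa using (conj_zpow (i := i) (a := b⁻¹) (b := x)).symm
    rw [this, ← hj, ← zpow_mul]
  have e2 : (b * a)⁻¹ * x * (b * a) = x ^ (i * j) := by
    rw [show (b * a)⁻¹ * x * (b * a) = a⁻¹ * (b⁻¹ * x * b) * a by group, ← hj]
    have : a⁻¹ * x ^ j * a = (a⁻¹ * x * a) ^ j := by
      simpa using (conj_zpow (i := j) (a := a⁻¹) (b := x)).symm
    rw [this, ← hi, ← zpow_mul]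
  rw [mul_comm i j, ← e1] at e2
  calc a * b * a⁻¹ * b⁻¹ * x = a * b * ((b * a)⁻¹ * x * (b * a)) * (b * a)⁻¹ := by group
    _ = a * b * ((a * b)⁻¹ * x * (a * b)) * (b * a)⁻¹ := by rw [e2]
    _ = x * (a * b * a⁻¹ * b⁻¹) := by group

/-- If `g` normalises `⟨x⟩` of prime order `p` and a `p`-power power of `g` centralises `x`, so does
`g`. -/
theorem commute_of_pow {G : Type u} [Group G] [Finite G] {p : ℕ} [Fact p.Prime] {x g : G}
    (hx : orderOf x = p) (hg : g⁻¹ * x * g ∈ Subgroup.zpowers x) {k : ℕ}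
    (hk : g ^ p ^ k * x = x * g ^ p ^ k) : g * x = x * g := by
  obtain ⟨i, hi⟩ : ∃ i : ℕ, x ^ i = g⁻¹ * x * g :=
    (Submonoid.mem_powers_iff _ _).1 (mem_powers_iff_mem_zpowers.2 hg)
  have hiter : ∀ m : ℕ, (g ^ m)⁻¹ * x * g ^ m = x ^ (i ^ m) := fun m => by
    induction m with
    | zero => simp
    | succ m ih =>
      rw [pow_succ, show (g ^ m * g)⁻¹ * x * (g ^ m * g) = g⁻¹ * ((g ^ m)⁻¹ * x * g ^ m) * g by
        group, ih]
      have e : g⁻¹ * x ^ (i ^ m) * g = (g⁻¹ * x * g) ^ (i ^ m) := by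
        simpa using (conj_pow (i := i ^ m) (a := g⁻¹) (b := x)).symm
      rw [e, ← hi, ← pow_mul, pow_succ, mul_comm]
  have e := hiter (p ^ k)
  rw [mul_assoc, ← hk, inv_mul_cancel_left] at e
  have e' : x ^ 1 = x ^ (i ^ p ^ k) := by rw [pow_one]; exact e
  rw [pow_eq_pow_iff_modEq, hx, ← ZMod.natCast_eq_natCast_iff, Nat.cast_pow] at e'
  have hi1 : ((i : ℕ) : ZMod p) = ((1 : ℕ) : ZMod p) := by
    rw [e']
    exact (ZMod.pow_card_pow (x := (i : ZMod p))).symm
  rw [ZMod.natCast_eq_natCast_iff, ← hx, ← pow_eq_pow_iff_modEq, pow_one] at hi1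
  have e2 : g⁻¹ * x * g = x := hi.symm.trans hi1
  nth_rw 1 [← e2]
  group

variable (D : Type u) (E : Type v) [Group D] [AddCommGroup E] [DistribMulAction D E]

/-- The distinguished element: `⟨x⟩` is normal, its centraliser is cyclic and fixed-point free. -/
structure Good (x : D) : Prop where
  order : orderOf x = 1 ∨ (orderOf x).Prime
  normal : ∀ g : D, g⁻¹ * x * g ∈ Subgroup.zpowers x
  cyclic : IsCyclic ↥(Subgroup.centralizer {x})
  fpf : ∀ g ∈ Subgroup.centralizer {x}, g ≠ 1 → ∀ v : E, g • v = v → v = 0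

variable {D E}

/-- The exceptional dimension six. -/
theorem exists_good_six [Finite D] [Finite E] [Nontrivial E] [FaithfulSMul D E]
    (hodd : Odd (Nat.card D)) (h2 : ∀ e : E, 2 • e = 0)
    (htrans : ∀ a b : E, a ≠ 0 → b ≠ 0 → ∃ d : D, d • a = b) (hcard : Nat.card E = 2 ^ 6)
    (hsol : Group.IsSolvable D) : ∃ x : D, Good D E x := by
  classical
  haveI : Fact (Nat.Prime 2) := ⟨Nat.prime_two⟩
  rcases SolvableTransitive.selfCentralizing_or_exception hsol Nat.prime_two h2 htrans with
    ⟨A, hAn, hA, hAc, hAt⟩ | hex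
  swap
  · rw [hcard] at hex; simp at hex
  haveI := hAn
  set R := ↥(SolvableTransitive.spanRing E A)
  letI : Field R := (SolvableTransitive.isField_spanRing htrans hA).toField
  obtain ⟨v₀, hv₀⟩ := exists_ne (0 : E)
  haveI : Finite (AddMonoid.End E) :=
    Finite.of_injective (fun f => (f : E → E)) DFunLike.coe_injective
  have hR2 : ((2 : ℕ) : R) = 0 := Subtype.ext (AddMonoidHom.ext fun v => h2 v)
  haveI : CharP R 2 := (CharP.charP_iff_prime_eq_zero Nat.prime_two).mpr hR2
  have hRc : Nat.card R = 2 ^ 6 := by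
    rw [← hcard]
    refine Nat.card_congr (Equiv.ofBijective (fun r : R => (r : AddMonoid.End E) v₀) ⟨fun r s e => ?_, fun w => ?_⟩)
    · refine sub_eq_zero.1 (Subtype.ext (SolvableTransitive.eq_zero_of_apply_eq_zero htrans hA
        (r - s).2 hv₀ ?_))
      show (r : AddMonoid.End E) v₀ - (s : AddMonoid.End E) v₀ = 0
      rw [sub_eq_zero]; exact e
    · obtain ⟨r, hr, hrw⟩ := hAt v₀ w hv₀
      exact ⟨⟨r, hr⟩, hrw⟩
  have hker : (SolvableTransitive.galois E A).ker = A := by
    rw [SolvableTransitive.ker_galois, hAc]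
  have hidx : A.index ∣ 6 := by
    have h := SolvableTransitive.index_dvd_of_ker (R := R) 2 hRc (SolvableTransitive.galois E A)
    rwa [hker] at h
  have hidx13 : A.index ∣ 3 := by
    have ho : Odd A.index := hodd.of_dvd_nat A.index_dvd_card
    exact (Nat.coprime_two_right.2 ho).dvd_of_dvd_mul_left (m := 2) hidx
  haveI : Fact (Nat.Prime 7) := ⟨by norm_num⟩
  have h7 : 7 ∣ Nat.card ↥A := by
    have h63 := SolvableTransitive.card_pred_dvd htrans
    rw [hcard, ← A.index_mul_card] at h63
    have h7' : 7 ∣ A.index * Nat.card ↥A := dvd_trans (by norm_num) h63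
    refine ((Nat.Prime.dvd_mul (by norm_num)).1 h7').resolve_left fun h => ?_
    have := Nat.le_of_dvd (by norm_num) (h.trans hidx13)
    omega
  obtain ⟨a, ha⟩ := exists_prime_orderOf_dvd_card' 7 h7
  let φ : ↥A →* R :=
    { toFun := fun g => ⟨SolvableTransitive.toEnd E (g : D), SolvableTransitive.toEnd_mem_spanRing g.2⟩
      map_one' := Subtype.ext (map_one _)
      map_mul' := fun g g' => Subtype.ext (map_mul _ _ _) }
  have hφ : Function.Injective φ := fun g g' e =>
    Subtype.ext (SolvableTransitive.toEnd_injective (congrArg Subtype.val e))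
  haveI hcyc : IsCyclic ↥A := isCyclic_of_subgroup_isDomain φ hφ
  have hfpf : ∀ g ∈ A, g ≠ 1 → ∀ v : E, g • v = v → v = 0 := by
    intro g hg hg1 v hv
    by_contra hv0
    have h0 := SolvableTransitive.eq_zero_of_apply_eq_zero htrans hA
      (φ ⟨g, hg⟩ - 1).2 hv0 (by show g • v - v = 0; rw [hv, sub_self])
    exact hg1 (congrArg Subtype.val (hφ ((sub_eq_zero.1 (Subtype.ext h0)).trans (map_one φ).symm)))
  have hcomm : ∀ g ∈ A, ∀ g' ∈ A, g * g' = g' * g := fun g hg g' hg' => by
    letI := hcyc.commGroup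
    exact congrArg Subtype.val (mul_comm (⟨g, hg⟩ : ↥A) ⟨g', hg'⟩)
  have hcent : Subgroup.centralizer ({(a : D)} : Set D) = A := by
    refine le_antisymm (fun g hg => ?_) fun g hg =>
      Subgroup.mem_centralizer_singleton_iff.2 (hcomm g hg a a.2)
    rw [← hker, MonoidHom.mem_ker]
    obtain ⟨j, hj, hs⟩ := SolvableTransitive.ringAut_eq_pow (R := R) 2 hRc
      (SolvableTransitive.galois E A g)
    set s := SolvableTransitive.galois E A g
    have hsz : s (φ a) = φ a := by
      refine Subtype.ext ?_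
      show SolvableTransitive.toEnd E g * SolvableTransitive.toEnd E (a : D) *
        SolvableTransitive.toEnd E g⁻¹ = SolvableTransitive.toEnd E (a : D)
      rw [← map_mul, ← map_mul, Subgroup.mem_centralizer_singleton_iff.1 hg, mul_inv_cancel_right]
    have hoz : orderOf (φ a) = 7 := by rw [orderOf_injective φ hφ, ha]
    have hj7 : j = 0 ∨ j = 3 := by
      have e := hs (φ a)
      rw [hsz] at e
      have e2 : a ^ (2 ^ j) = a ^ 1 := hφ (by rw [map_pow, pow_one]; exact e.symm)
      rw [pow_eq_pow_iff_modEq, ha] at e2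
      interval_cases j <;> first | omega | (exfalso; revert e2; decide)
    have hg3 : g ^ 3 ∈ A := by
      rcases (Nat.dvd_prime (by norm_num : Nat.Prime 3)).1 hidx13 with h | h
      · rw [Subgroup.index_eq_one.1 h]; exact Subgroup.mem_top _
      · rw [← h]; exact A.pow_index_mem g
    have hs3 : s ^ 3 = 1 := by
      rw [← map_pow, ← MonoidHom.mem_ker, hker]; exact hg3
    refine RingEquiv.ext fun r => ?_
    rcases hj7 with rfl | rfl
    · rw [hs r]; simp
    · exfalso
      letI := Fintype.ofFinite R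
      obtain ⟨u, hu⟩ := IsCyclic.exists_ofOrder_eq_natCard (α := Rˣ)
      have hu' : orderOf (u : R) = 63 := by
        rw [orderOf_units, hu, Nat.card_units, hRc]; norm_num
      have e : (u : R) ^ (2 ^ 9) = (u : R) ^ 1 := by
        have := RingEquiv.congr_fun hs3 (u : R)
        rw [pow_succ, pow_succ, pow_one] at this
        simp only [RingAut.mul_apply, RingAut.one_apply, hs, map_pow, ← pow_mul] at this
        simpa using this
      have e' : u ^ (2 ^ 9) = u ^ 1 := Units.ext (by push_cast; exact e)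
      rw [pow_eq_pow_iff_modEq, ← orderOf_units, hu'] at e'
      norm_num [Nat.ModEq] at e'
  refine ⟨a, Or.inr (by rw [Subgroup.orderOf_coe, ha]; norm_num), fun g => ?_, hcent.symm ▸ hcyc,
    hcent.symm ▸ hfpf⟩
  have hmem : g⁻¹ * (a : D) * g ∈ A := by simpa using hAn.conj_mem (a : D) a.2 g⁻¹
  obtain ⟨j, hj⟩ := mem_zpowers_of_pow (p := 7) (by norm_num) ha
    (y := (⟨_, hmem⟩ : ↥A)) (Subtype.ext (by
      show (g⁻¹ * (a : D) * g) ^ 7 = 1
      have h7a : ((a : D)) ^ 7 = 1 := by
        rw [← SubgroupClass.coe_pow, ← ha, pow_orderOf_eq_one, Subgroup.coe_one]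
      have e := conj_pow (i := 7) (a := g⁻¹) (b := (a : D))
      rw [inv_inv] at e
      rw [e, h7a, mul_one, inv_mul_cancel]))
  exact ⟨j, congrArg Subtype.val hj⟩

/-- **Odd order transitive linear groups in characteristic two.** -/
theorem exists_good [Finite D] [Finite E] [Nontrivial E] [FaithfulSMul D E]
    (hodd : Odd (Nat.card D)) (h2 : ∀ e : E, 2 • e = 0)
    (htrans : ∀ a b : E, a ≠ 0 → b ≠ 0 → ∃ d : D, d • a = b) : ∃ x : D, Good D E x := by
  classical
  haveI : Fact (Nat.Prime 2) := ⟨Nat.prime_two⟩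
  letI : Module (ZMod 2) E := AddCommGroup.zmodModule h2
  haveI : Fintype E := Fintype.ofFinite E
  set n := Module.finrank (ZMod 2) E with hn
  have hcard : Nat.card E = 2 ^ n := by
    rw [Module.natCard_eq_pow_finrank (K := ZMod 2), Nat.card_zmod]
  let b := Module.finBasis (ZMod 2) E
  let lin : D →* Module.End (ZMod 2) E :=
    { toFun := fun d => (DistribSMul.toAddMonoidHom E d).toZModLinearMap 2
      map_one' := LinearMap.ext fun v => one_smul D v
      map_mul' := fun d d' => LinearMap.ext fun v => mul_smul d d' v }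
  let ρ : D →* Matrix (Fin n) (Fin n) (ZMod 2) :=
    ((LinearMap.toMatrixAlgEquiv b).toMonoidHom).comp lin
  have hρ : Function.Injective ρ := fun d d' e =>
    eq_of_smul_eq_smul fun v : E => LinearMap.congr_fun ((LinearMap.toMatrixAlgEquiv b).injective e) v
  have hmv : ∀ (d : D) (v : E), (ρ d).mulVec (b.repr v) = b.repr (d • v) := fun d v =>
    LinearMap.toMatrix_mulVec_repr b b (lin d) v
  have hn0 : 0 < n := Module.finrank_pos
  rcases Nat.lt_or_ge n 2 with hlt | hge
  · -- `#E = 2`: the group is trivial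
    have hn1 : n = 1 := by omega
    have htriv : ∀ d : D, d = 1 := fun d => eq_of_smul_eq_smul fun v : E => by
      rw [one_smul]
      by_cases hv : v = 0
      · rw [hv, smul_zero]
      · have hdv : d • v ≠ 0 := fun e => hv ((smul_eq_zero_iff_eq d).1 e)
        rw [hn1, pow_one] at hcard
        obtain ⟨x, y, hxy, huniv⟩ := Nat.card_eq_two_iff.1 hcard
        have hm : ∀ z : E, z = x ∨ z = y := fun z => by
          have := Set.mem_univ z; rw [← huniv] at this; simpa using this
        rcases hm 0 with h0 | h0 <;> rcases hm v with hv' | hv' <;> rcases hm (d • v) with hd | hd <;>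
          first
            | exact absurd (hv'.trans h0.symm) hv
            | exact absurd (hd.trans h0.symm) hdv
            | exact hd.trans hv'.symm
    haveI : Subsingleton D := ⟨fun a b => (htriv a).trans (htriv b).symm⟩
    exact ⟨1, Or.inl orderOf_one, fun g => by simp [htriv g], isCyclic_of_subsingleton,
      fun g _ hg => absurd (htriv g) hg⟩
  by_cases h6 : n = 6
  · let e6 := Matrix.reindexAlgEquiv (ZMod 2) (ZMod 2) (finCongr h6)
    exact exists_good_six hodd h2 htrans (by rw [hcard, h6])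
      (solvable_GL_six hodd (e6.toMonoidHom.comp ρ) (e6.injective.comp hρ))
  obtain ⟨p, hp, hpd, hprim⟩ := Zsigmondy.exists_primitive_prime_divisor 2 n one_lt_two (by omega)
    (fun h => h6 h.2) (by
      rintro ⟨-, m, hm⟩
      rcases Nat.eq_zero_or_pos m with rfl | h
      · norm_num at hm
      · obtain ⟨m', rfl⟩ := Nat.exists_eq_add_of_le' h
        rw [pow_succ] at hm; omega)
  haveI := Fact.mk hp
  have hord : orderOf (2 : ZMod p) = n := by
    have key : ∀ k, (2 : ZMod p) ^ k = 1 ↔ p ∣ 2 ^ k - 1 := fun k => by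
      rw [← ZMod.natCast_eq_zero_iff, Nat.cast_sub Nat.one_le_two_pow, sub_eq_zero, Nat.cast_pow,
        Nat.cast_one]
      norm_num
    refine (orderOf_eq_iff hn0).2 ⟨(key n).2 hpd, fun k hk hk0 e => hprim k hk0 hk ((key k).1 e)⟩
  have hpD : p ∣ Nat.card D := by
    have h := SolvableTransitive.card_pred_dvd (G := D) htrans
    rw [hcard] at h
    exact hpd.trans h
  obtain ⟨x, hx⟩ := exists_prime_orderOf_dvd_card' p hpD
  obtain ⟨hcyc, hfpf⟩ := centralizer_cyclic hn0 hord ρ hρ hx
  refine ⟨x, Or.inr (by rw [hx]; exact hp), fun g => conj_mem_zpowers hn0 hord D hodd ρ hρ x hx g,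
    hcyc, fun g hg hg1 v hv => ?_⟩
  have h0 : b.repr v = 0 := DFunLike.coe_injective (hfpf g hg hg1 (b.repr v) (by rw [hmv, hv]))
  exact (LinearEquiv.map_eq_zero_iff _).1 h0

end Cfsg.Agent.OddLinear
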