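import Cfsg.Agent.Lib.Char.Orthogonality
import Cfsg.Agent.Lib.Char.Generalized
import Cfsg.Agent.Lib.Char.Linear
import Cfsg.Agent.Lib.CharInt.Basic

/-!
# Coefficients of functions of `G` on an abelian subgroup

`co C f μ` is the coefficient of the linear character `μ` of `C` in the restriction of `f`.
-/

set_option autoImplicit false
set_option linter.style.haveILetI false
set_option linter.unusedSectionVars false

namespace Cfsg.Agent.OddLinear

open Finset
open scoped ComplexConjugate Classical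

universe u

variable {G : Type u} [Group G] {C : Subgroup G}

/-- A linear character as a complex function. -/
noncomputable def ev (μ : ↥C →* ℂˣ) (x : ↥C) : ℂ := (μ x : ℂ)

/-- The irreducible character of a linear character. -/
noncomputable def toIrr (μ : ↥C →* ℂˣ) : IrrCharacter ↥C := Char.linIrr ((Units.coeHom ℂ).comp μ)

theorem toIrr_apply (μ : ↥C →* ℂˣ) : (toIrr μ).1 = ev μ := rfl

theorem toIrr_injective : Function.Injective (toIrr (C := C)) := fun a b h =>
  MonoidHom.ext fun x => Units.ext (congrFun (congrArg Subtype.val h) x)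

theorem ev_mul (μ ν : ↥C →* ℂˣ) (x : ↥C) : ev (μ * ν) x = ev μ x * ev ν x := by
  simp [ev]

theorem ev_one (x : ↥C) : ev (1 : ↥C →* ℂˣ) x = 1 := by simp [ev]

theorem ev_apply_one (μ : ↥C →* ℂˣ) : ev μ 1 = 1 := by simp [ev]

theorem hom_mul_inv (μ : ↥C →* ℂˣ) : μ * μ⁻¹ = 1 := mul_inv_cancel μ

theorem hom_mul_inv_inv (μ ν : ↥C →* ℂˣ) : (μ * ν⁻¹)⁻¹ = ν * μ⁻¹ :=
  MonoidHom.ext fun x => by simp [mul_comm]

theorem hom_one_inv : (1 : ↥C →* ℂˣ)⁻¹ = 1 := MonoidHom.ext fun x => by simp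

theorem hom_inv_inv (μ : ↥C →* ℂˣ) : μ⁻¹⁻¹ = μ := MonoidHom.ext fun x => by simp

theorem hom_mul_left_cancel_inv (μ ν : ↥C →* ℂˣ) : μ * (μ * ν⁻¹)⁻¹ = ν :=
  MonoidHom.ext fun x => by simp

theorem hom_eq_one_of_eq_mul_inv {μ ν : ↥C →* ℂˣ} (h : μ = μ * ν⁻¹) : ν = 1 :=
  MonoidHom.ext fun x => by simpa using DFunLike.congr_fun h x

variable [Fintype G] [Fintype ↥C]

noncomputable instance : Fintype (↥C →* ℂˣ) :=
  @Fintype.ofFinite _ (Finite.of_injective _ (toIrr_injective (C := C)))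

theorem conj_ev (μ : ↥C →* ℂˣ) (x : ↥C) : conj (ev μ x) = ev μ⁻¹ x := by
  have h := Char.normSq_linear ((Units.coeHom ℂ).comp μ) x
  have h2 : ev μ x * ev μ⁻¹ x = 1 := by simp [ev]
  exact mul_left_cancel₀ (Units.ne_zero (μ x)) (h.trans h2.symm)

theorem inner_ev (μ ν : ↥C →* ℂˣ) :
    classInner (ev μ) (ev ν) = if μ = ν then 1 else 0 := by
  rw [← toIrr_apply, ← toIrr_apply, Char.classInner_irr]
  by_cases h : μ = ν
  · rw [if_pos h, if_pos (by rw [h])]
  · rw [if_neg h, if_neg fun e => h (toIrr_injective e)]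

/-- The coefficient. -/
noncomputable def co (C : Subgroup G) [Fintype ↥C] (f : G → ℂ) (μ : ↥C →* ℂˣ) : ℂ :=
  classInner (fun x : ↥C => f x) (ev μ)

theorem co_sub (f g : G → ℂ) (μ : ↥C →* ℂˣ) : co C (f - g) μ = co C f μ - co C g μ :=
  Char.classInner_sub_left _ _ _

theorem co_smul (c : ℂ) (f : G → ℂ) (μ : ↥C →* ℂˣ) : co C (c • f) μ = c * co C f μ :=
  Char.classInner_smul_left c _ _

theorem co_sum {ι : Type*} (s : Finset ι) (f : ι → G → ℂ) (μ : ↥C →* ℂˣ) :
    co C (∑ i ∈ s, f i) μ = ∑ i ∈ s, co C (f i) μ := by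
  rw [co, show (fun x : ↥C => (∑ i ∈ s, f i) x) = ∑ i ∈ s, (fun x : ↥C => f i x) from by
    funext x; simp, Char.classInner_sum_left]
  rfl

/-- Completeness on an abelian subgroup. -/
theorem eq_sum_co (hC : ∀ a b : ↥C, a * b = b * a) (f : G → ℂ) (x : ↥C) :
    f x = ∑ μ : ↥C →* ℂˣ, co C f μ * ev μ x := by
  have hcl : IsClassFunction ↥C (fun x : ↥C => f x) := fun g h => by
    show f ↑(h * g * h⁻¹) = f g
    rw [hC h g, mul_inv_cancel_right]
  have hbij : Function.Bijective (toIrr (C := C)) := by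
    refine ⟨toIrr_injective, fun χ => ?_⟩
    obtain ⟨lam, hl⟩ := Char.IsCharacter.exists_monoidHom (Char.irr_isCharacter χ)
      (Char.apply_one_of_comm hC χ)
    exact ⟨lam.toHomUnits, Subtype.ext (funext fun y => by rw [← hl]; rfl)⟩
  have h := congrFun (Char.eq_sum_classInner_smul hcl) x
  rw [Finset.sum_apply] at h
  rw [h]
  refine (Fintype.sum_bijective _ hbij _ _ fun μ => ?_).symm
  rfl

theorem co_apply_one (hC : ∀ a b : ↥C, a * b = b * a) (f : G → ℂ) :
    f 1 = ∑ μ : ↥C →* ℂˣ, co C f μ := by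
  have h := eq_sum_co hC f 1
  simpa [ev_apply_one] using h

theorem ext_co (hC : ∀ a b : ↥C, a * b = b * a) {f g : G → ℂ}
    (h : ∀ μ : ↥C →* ℂˣ, co C f μ = co C g μ) (x : ↥C) : f x = g x := by
  rw [eq_sum_co hC f, eq_sum_co hC g]
  simp only [h]

/-- A character has natural coefficients. -/
theorem exists_nat_co {f : G → ℂ} (hf : IsCharacter G f) (μ : ↥C →* ℂˣ) :
    ∃ n : ℕ, co C f μ = n :=
  Char.IsCharacter.exists_nat_classInner (Char.IsCharacter.restrict hf C)
    (Char.irr_isCharacter (toIrr μ))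

/-- The coefficient of an irreducible character, as an integer. -/
noncomputable def cn (C : Subgroup G) [Fintype ↥C] (ω : IrrCharacter G) (μ : ↥C →* ℂˣ) : ℤ :=
  ((exists_nat_co (Char.irr_isCharacter ω) μ).choose : ℤ)

theorem cn_spec (ω : IrrCharacter G) (μ : ↥C →* ℂˣ) : (cn C ω μ : ℂ) = co C ω.1 μ := by
  rw [cn, Int.cast_natCast, ← (exists_nat_co (Char.irr_isCharacter ω) μ).choose_spec]

theorem cn_nonneg (ω : IrrCharacter G) (μ : ↥C →* ℂˣ) : 0 ≤ cn C ω μ := Int.natCast_nonneg _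

theorem degree_eq_sum_cn (hC : ∀ a b : ↥C, a * b = b * a) (ω : IrrCharacter G) :
    (Char.degree ω : ℤ) = ∑ μ : ↥C →* ℂˣ, cn C ω μ := by
  have h := co_apply_one hC ω.1
  rw [Char.apply_one_eq_degree] at h
  simp only [← cn_spec] at h
  exact_mod_cast h

theorem cn_conjIrr_aux (ω ω' : IrrCharacter G) (h : ∀ g, ω'.1 g = conj (ω.1 g))
    (μ : ↥C →* ℂˣ) : cn C ω' μ = cn C ω μ⁻¹ := by
  have e : co C ω'.1 μ = conj (co C ω.1 μ⁻¹) := by
    simp only [co, classInner, map_mul, map_inv₀, map_natCast, map_sum, h, conj_ev]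
    simp [ev]
  rw [← cn_spec, ← cn_spec, map_intCast] at e
  exact_mod_cast e

/-- Multiplication by a function with known coefficients. -/
theorem co_mul (hC : ∀ a b : ↥C, a * b = b * a) (f g : G → ℂ) (μ : ↥C →* ℂˣ) :
    co C (f * g) μ = ∑ ν : ↥C →* ℂˣ, co C f ν * co C g (μ * ν⁻¹) := by
  have h1 : (fun x : ↥C => (f * g) x) = ∑ ν : ↥C →* ℂˣ, co C f ν • (fun x : ↥C => ev ν x * g x) := by
    funext x
    rw [Finset.sum_apply, Pi.mul_apply, eq_sum_co hC f x, Finset.sum_mul]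
    exact Finset.sum_congr rfl fun ν _ => by simp [mul_assoc]
  rw [co, h1, Char.classInner_sum_left]
  refine Finset.sum_congr rfl fun ν _ => ?_
  rw [Char.classInner_smul_left, co]
  congr 1
  simp only [classInner]
  congr 1
  refine Finset.sum_congr rfl fun x _ => ?_
  rw [conj_ev, conj_ev]
  simp only [ev, MonoidHom.inv_apply, MonoidHom.mul_apply, mul_inv_rev, inv_inv, Units.val_mul]
  ring

end Cfsg.Agent.OddLinear
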