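import Cfsg.Agent.Lib.OddLinear.Induced
import Cfsg.Agent.Lib.Char.PRegular

/-!
# Small characters whose restriction is multiplicity free have the degree of an orbit
-/

set_option autoImplicit false
set_option linter.style.haveILetI false
set_option linter.unusedSectionVars false

namespace Cfsg.Agent.OddLinear

open Finset
open scoped ComplexConjugate Classical

universe u

variable {G : Type u} [Group G] {C N : Subgroup G} {x0 : G} {p : ℕ}
  [Fintype G] [Fintype ↥C] [Fintype ↥N]

theorem Ctx.odd_degree (h : Ctx C N x0 p) (ω : IrrCharacter G) : Odd (Char.degree ω) := by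
  refine h.odd_card.of_dvd_nat ?_
  exact Char.degree_dvd_natCard ω

theorem inner_self_restrict (hC : ∀ a b : ↥C, a * b = b * a) (ω : IrrCharacter G) :
    classInner (fun x : ↥C => ω.1 x) (fun x : ↥C => ω.1 x) =
      ((∑ μ : ↥C →* ℂˣ, cn C ω μ ^ 2 : ℤ) : ℂ) := by
  have h1 : (fun x : ↥C => ω.1 x) = ∑ μ : ↥C →* ℂˣ, co C ω.1 μ • ev μ := by
    funext x; rw [Finset.sum_apply, eq_sum_co hC ω.1 x]; rfl
  conv_lhs => arg 2; rw [h1]
  rw [Char.classInner_sum_right]
  push_cast
  refine Finset.sum_congr rfl fun μ _ => ?_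
  rw [Char.classInner_smul_right, ← cn_spec, map_intCast, pow_two]
  congr 1
  exact (cn_spec ω μ).symm

/-- The degree bound. -/
theorem Ctx.degree_bound (h : Ctx C N x0 p) (χ : IrrCharacter G)
    (h01 : ∀ μ, cn C χ μ ^ 2 = cn C χ μ) :
    Char.degree χ * Nat.card ↥C ≤
      Nat.card ↥N + Nat.card ↥(Subgroup.center G) * Char.degree χ ^ 2 := by
  set d := Char.degree χ with hd
  set f : ↥C → ℂ := fun x => if (x : G) ∈ Subgroup.center G then 0 else χ.1 x with hfdef
  have hχc : IsClassFunction G χ.1 := Char.IsCharacter.isClassFunction (Char.irr_isCharacter χ)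
  have hgood : h.Good f := by
    refine ⟨fun n x => ?_, fun x hx => by rw [hfdef]; exact if_pos hx⟩
    have e1 : (h.cj n x : G) ∈ Subgroup.center G ↔ (x : G) ∈ Subgroup.center G := by
      rw [h.cj_coe]
      constructor
      · intro hh
        have := (Subgroup.center G).mul_mem hh (one_mem _)
        have e2 := Subgroup.mem_center_iff.1 hh n
        have : (x : G) = (n : G)⁻¹ * x * n := by
          have e3 : (x : G) * n = (n : G)⁻¹ * x * n * n := by rw [← e2]; group
          exact mul_right_cancel e3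
        rwa [this]
      · intro hh
        rwa [mul_assoc, ← Subgroup.mem_center_iff.1 hh n, inv_mul_cancel_left]
    have e2 : χ.1 (h.cj n x : G) = χ.1 x := by
      have := hχc (x : G) (n : G)⁻¹
      rwa [inv_inv] at this
    simp only [hfdef, e1, e2]
  set r : ℝ := ∑ x : ↥C, Complex.normSq (f x) with hr
  set S : ℂ := ((r / Nat.card ↥N : ℝ) : ℂ) with hS
  have hC : (Nat.card ↥C : ℂ) ≠ 0 := Nat.cast_ne_zero.2 Nat.card_pos.ne'
  have hN := h.card_N_ne_zero
  have hsum : ∀ Ψ : G → ℂ, IsClassFunction G Ψ → (∀ x : ↥C, f x ≠ 0 → Ψ x = f x) →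
      classInner Ψ (Ph C N f) = S := by
    intro Ψ hΨ hagree
    rw [h.inner_ph hΨ, classInner, Finset.sum_congr rfl (fun (x : ↥C) _ => show
      Ψ x * conj (f x) = ((Complex.normSq (f x) : ℝ) : ℂ) by
      by_cases hf0 : f x = 0
      · simp [hf0]
      · rw [hagree x hf0, Complex.mul_conj]), hS, hr]
    push_cast
    field_simp
  have hA : classInner χ.1 (Ph C N f) = S := hsum _ hχc fun x hx => by
    rw [hfdef] at hx ⊢
    simp only [ne_eq, ite_eq_left_iff, not_forall] at hx
    exact (if_neg hx.1).symm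
  have hB : classInner (Ph C N f) (Ph C N f) = S :=
    hsum _ (Char.isClassFunction_indFun _ _) fun x _ => h.ph_apply hgood x
  have hA' : classInner (Ph C N f) χ.1 = S := by
    rw [← Char.conj_classInner, hA, hS, Complex.conj_ofReal]
  have hpos : 0 ≤ (classInner (Ph C N f - S • χ.1) (Ph C N f - S • χ.1)).re := by
    rw [Char.classInner_self, Complex.ofReal_re]
    exact mul_nonneg (inv_nonneg.2 (Nat.cast_nonneg _))
      (Finset.sum_nonneg fun g _ => Complex.normSq_nonneg _)
  rw [Char.classInner_sub_left, Char.classInner_sub_right, Char.classInner_sub_right,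
    Char.classInner_smul_left, Char.classInner_smul_left, Char.classInner_smul_right,
    Char.classInner_smul_right, hB, hA, hA', Char.classInner_irr_self χ.2, hS,
    Complex.conj_ofReal, mul_one] at hpos
  simp only [Complex.sub_re, Complex.mul_re, Complex.ofReal_re, Complex.ofReal_im, mul_zero,
    sub_zero] at hpos
  have hNpos : (0 : ℝ) < Nat.card ↥N := Nat.cast_pos.2 Nat.card_pos
  have hr1 : r ≤ Nat.card ↥N := by
    by_contra hlt
    push Not at hlt
    have : 1 < r / Nat.card ↥N := (one_lt_div hNpos).2 hlt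
    nlinarith
  -- the total over `C`
  have htot : ∑ x : ↥C, Complex.normSq (χ.1 x) = (Nat.card ↥C : ℝ) * d := by
    have e := inner_self_restrict h.comm χ
    simp only [h01] at e
    rw [← degree_eq_sum_cn h.comm χ, classInner,
      Finset.sum_congr rfl (fun (x : ↥C) _ => show χ.1 x * conj (χ.1 x) =
        ((Complex.normSq (χ.1 x) : ℝ) : ℂ) by rw [Complex.mul_conj])] at e
    have e' := congrArg (fun z => (Nat.card ↥C : ℂ) * z) e
    simp only [← mul_assoc, mul_inv_cancel₀ hC, one_mul] at e'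
    exact_mod_cast e'
  -- the centre
  have hcent : ∑ x : ↥C, Complex.normSq (χ.1 x) ≤
      r + (Nat.card ↥(Subgroup.center G) : ℝ) * d ^ 2 := by
    have hle : ∀ x : ↥C, Complex.normSq (χ.1 x) ≤ Complex.normSq (f x) +
        if (x : G) ∈ Subgroup.center G then (d : ℝ) ^ 2 else 0 := by
      intro x
      rw [hfdef]
      dsimp only
      split_ifs
      · have hn := CharInt.norm_char_le (Char.irr_isCharacter χ) (x : G)
        rw [Char.apply_one_eq_degree, Complex.norm_natCast] at hn
        rw [map_zero, zero_add, Complex.normSq_eq_norm_sq]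
        exact pow_le_pow_left₀ (norm_nonneg _) hn 2
      · rw [add_zero]
    refine (Finset.sum_le_sum fun x _ => hle x).trans (le_of_eq ?_)
    rw [Finset.sum_add_distrib, ← hr, add_right_inj, ← Finset.sum_filter, Finset.sum_const,
      nsmul_eq_mul]
    congr 2
    rw [Nat.card_eq_fintype_card, ← Finset.card_univ]
    refine Finset.card_bij (fun x hx => (⟨x, (Finset.mem_filter.1 hx).2⟩ : ↥(Subgroup.center G)))
      (fun _ _ => Finset.mem_univ _) (fun a _ b _ e => Subtype.ext (congrArg Subtype.val e :))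
      fun z _ => ⟨⟨z, h.center_le z.2⟩, Finset.mem_filter.2 ⟨Finset.mem_univ _, z.2⟩, rfl⟩
  rw [htot] at hcent
  have : ((d * Nat.card ↥C : ℕ) : ℝ) ≤
      ((Nat.card ↥N + Nat.card ↥(Subgroup.center G) * d ^ 2 : ℕ) : ℝ) := by
    push_cast
    nlinarith
  exact_mod_cast this

theorem Ctx.card_C_eq (h : Ctx C N x0 p) (hx0 : x0 ∉ Subgroup.center G) :
    ∃ q, Nat.card ↥C = q * Nat.card ↥(Subgroup.center G) ∧ p ≤ q ∧ Odd q := by
  haveI := Fact.mk h.prime
  set Z := (Subgroup.center G).subgroupOf C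
  refine ⟨Z.index, ?_, ?_, h.odd_card.of_dvd_nat
    ((Subgroup.index_dvd_card Z).trans (Subgroup.card_subgroup_dvd_card C))⟩
  · rw [← Z.index_mul_card, Nat.card_congr (Subgroup.subgroupOfEquivOfLe h.center_le).toEquiv]
  · haveI : Z.Normal := ⟨fun a ha g => by rwa [h.comm g a, mul_inv_cancel_right]⟩
    have ho : orderOf (h.y0 : ↥C ⧸ Z) = p := by
      refine orderOf_eq_prime (by rw [← QuotientGroup.mk_pow, h.y0_pow, QuotientGroup.mk_one]) ?_
      rw [Ne, QuotientGroup.eq_one_iff]
      exact hx0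
    rw [Subgroup.index_eq_card, ← ho]
    exact Nat.le_of_dvd Nat.card_pos (orderOf_dvd_natCard _)

/-- Small degree: the restriction is a single orbit. -/
theorem Ctx.degree_orbit (h : Ctx C N x0 p) (hx0 : x0 ∉ Subgroup.center G) (χ : IrrCharacter G)
    (h01 : ∀ μ, cn C χ μ = 0 ∨ cn C χ μ = 1) (hy : ∀ μ, cn C χ μ ≠ 0 → μ h.y0 ≠ 1)
    (hd : 2 * Char.degree χ + 1 ≤ p ∨ (Nat.card ↥N = Nat.card ↥C ∧ Char.degree χ < p)) :
    Char.degree χ * Nat.card ↥C = Nat.card ↥N ∧
      ∃ μ0 : ↥C →* ℂˣ, μ0 h.y0 ≠ 1 ∧ ∀ ρ, cn C χ ρ = if ρ ∈ h.orb μ0 then 1 else 0 := by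
  set d := Char.degree χ with hddef
  set S := Finset.univ.filter fun μ : ↥C →* ℂˣ => cn C χ μ ≠ 0 with hS
  have hdS : d = S.card := by
    have e : (d : ℤ) = (S.card : ℤ) := by
      rw [hddef, degree_eq_sum_cn h.comm χ, hS, Finset.natCast_card_filter]
      exact Finset.sum_congr rfl fun μ _ => by rcases h01 μ with e | e <;> simp [e]
    exact_mod_cast e
  obtain ⟨μ0, hμ0⟩ : ∃ μ0, μ0 ∈ S := by
    refine Finset.card_pos.1 ?_
    rw [← hdS]; exact Char.degree_pos χ
  have hμ0y := hy μ0 (Finset.mem_filter.1 hμ0).2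
  have hsub : ∀ μ ∈ S, h.orb μ ⊆ S := fun μ hμ ν hν => by
    refine Finset.mem_filter.2 ⟨Finset.mem_univ _, ?_⟩
    have e : (cn C χ ν : ℂ) = (cn C χ μ : ℂ) := by
      rw [cn_spec, cn_spec]
      exact h.co_orb (Char.IsCharacter.isClassFunction (Char.irr_isCharacter χ)) hν
    rw [show cn C χ ν = cn C χ μ from by exact_mod_cast e]
    exact (Finset.mem_filter.1 hμ).2
  set e := (h.orb μ0).card with he
  have hcard : e * Nat.card ↥C = Nat.card ↥N := h.card_orb hμ0y
  obtain ⟨k, hk⟩ : e ∣ S.card := by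
    rw [Finset.card_eq_sum_card_image (fun μ => h.orb μ) S]
    refine Finset.dvd_sum fun O hO => ?_
    obtain ⟨μ, hμ, rfl⟩ := Finset.mem_image.1 hO
    have : (S.filter fun ν => h.orb ν = h.orb μ) = h.orb μ := by
      ext ν
      rw [Finset.mem_filter]
      exact ⟨fun hh => hh.2 ▸ h.mem_orb_self ν, fun hh => ⟨hsub μ hμ hh, h.orb_eq hh⟩⟩
    rw [this]
    exact dvd_of_eq (Nat.eq_of_mul_eq_mul_right Nat.card_pos
      (hcard.trans (h.card_orb (hy μ (Finset.mem_filter.1 hμ).2)).symm))
  have hk1 : k = 1 := by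
    obtain ⟨q, hq, hpq, hqodd⟩ := h.card_C_eq hx0
    have hb := h.degree_bound χ fun μ => by rcases h01 μ with e | e <;> simp [e]
    rw [← hddef, ← hcard, hq, hdS, hk] at hb
    set Z := Nat.card ↥(Subgroup.center G) with hZ
    have hZpos : 0 < Z := Nat.card_pos
    have hb' : e * k * q ≤ e * q + (e * k) ^ 2 := by
      refine Nat.le_of_mul_le_mul_right ?_ hZpos
      calc e * k * q * Z = e * k * (q * Z) := by ring
        _ ≤ e * (q * Z) + Z * (e * k) ^ 2 := hb
        _ = (e * q + (e * k) ^ 2) * Z := by ring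
    have hk0 : k ≠ 0 := fun e0 => by
      have := Finset.card_pos.2 ⟨μ0, hμ0⟩
      rw [hk, e0, mul_zero] at this; exact lt_irrefl _ this
    have hdk : d = e * k := hdS.trans hk
    by_contra hk2
    have hk3 : 2 ≤ k := by omega
    rcases hd with hd | ⟨hNC, hd⟩
    · have hq2 : 2 * (e * k) + 1 ≤ q := by omega
      have he0 : 0 < e := Finset.card_pos.2 ⟨μ0, h.mem_orb_self μ0⟩
      have h' : k * q ≤ q + e * k * k := by
        refine Nat.le_of_mul_le_mul_left ?_ he0
        calc e * (k * q) = e * k * q := by ring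
          _ ≤ e * q + (e * k) ^ 2 := hb'
          _ = e * (q + e * k * k) := by ring
      nlinarith
    · have he1 : e = 1 := Nat.eq_of_mul_eq_mul_right Nat.card_pos
        (hcard.trans (hNC.trans (one_mul _).symm))
      obtain ⟨a, ha⟩ := h.odd_degree χ
      rw [← hddef] at ha
      obtain ⟨b, hb2⟩ := hqodd
      rw [he1, one_mul, one_mul] at hb'
      rw [he1, one_mul] at hdk
      obtain ⟨k', rfl⟩ : ∃ k', k = k' + 3 := ⟨k - 3, by omega⟩
      obtain ⟨q', rfl⟩ : ∃ q', q = q' + k' + 5 := ⟨q - (k' + 5), by omega⟩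
      nlinarith [Nat.zero_le (q' * k'), Nat.zero_le q']
  refine ⟨by rw [hdS, hk, hk1, mul_one]; exact hcard, μ0, hμ0y, fun ρ => ?_⟩
  have hSeq : h.orb μ0 = S := Finset.eq_of_subset_of_card_le (hsub μ0 hμ0)
    (by rw [hk, hk1, mul_one])
  rw [hSeq]
  rcases h01 ρ with e | e <;> simp [hS, e]

end Cfsg.Agent.OddLinear
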