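import Cfsg.Agent.Lib.OddLinear.Lift
import Cfsg.Agent.Lib.CharInt.Basic
import Mathlib.FieldTheory.Separable
import Mathlib.FieldTheory.Perfect
import Mathlib.LinearAlgebra.Eigenspace.Basic
import Mathlib.FieldTheory.Finite.Basic

/-!
# The complex character of a linear group of odd order over `ZMod 2`
-/

set_option autoImplicit false
set_option linter.style.haveILetI false
set_option linter.unusedSectionVars false

namespace Cfsg.Agent.OddLinear

open Polynomial
open scoped Classical

universe u

variable {n : ℕ} {p : ℕ}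

/-- A matrix of order `p` without fixed vectors, `p` a primitive divisor of `2 ^ n - 1`, has
irreducible characteristic polynomial. -/
theorem charpoly_irreducible [Fact p.Prime] (hn : 0 < n) (hord : orderOf (2 : ZMod p) = n)
    (M : Matrix (Fin n) (Fin n) (ZMod 2)) (hp : M ^ p = 1) (h1 : (M - 1).det ≠ 0) :
    Irreducible M.charpoly := by
  haveI : Fact (Nat.Prime 2) := ⟨Nat.prime_two⟩
  set g := M.charpoly with hg
  have hdeg : g.natDegree = n := by rw [hg, Matrix.charpoly_natDegree_eq_dim, Fintype.card_fin]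
  obtain ⟨r, hr, hrmon, hrg⟩ : ∃ r, Irreducible r ∧ r.Monic ∧ r ∣ g := by
    obtain ⟨r, hr, hrg⟩ := WfDvdMonoid.exists_irreducible_factor
      (fun hu => by rw [hg, (Matrix.charpoly_monic M).eq_one_of_isUnit hu, natDegree_one] at hdeg; omega) (Matrix.charpoly_monic M).ne_zero
    refine ⟨normalize r, (associated_normalize r).irreducible hr, monic_normalize hr.ne_zero, ?_⟩
    exact (associated_normalize r).symm.dvd.trans hrg
  haveI := Fact.mk hr
  set K := AdjoinRoot r with hK
  set φ := AdjoinRoot.of r with hφ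
  set z := AdjoinRoot.root r with hz
  have hroot : (g.map φ).IsRoot z := by
    rw [IsRoot, eval_map]
    obtain ⟨s, hs⟩ := hrg
    rw [hs, eval₂_mul, hφ, hz, AdjoinRoot.eval₂_root, zero_mul]
  set MK := φ.mapMatrix M with hMK
  have hMKc : MK.charpoly = g.map φ := Matrix.charpoly_map M φ
  have hev : ∃ v : Fin n → K, v ≠ 0 ∧ MK.mulVec v = z • v := by
    have hd : (Matrix.scalar (Fin n) z - MK).det = 0 := by
      rw [← Matrix.eval_charpoly, hMKc]; exact hroot
    obtain ⟨v, hv, hv0⟩ := Matrix.exists_mulVec_eq_zero_iff.2 hd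
    refine ⟨v, hv, ?_⟩
    rw [Matrix.sub_mulVec, sub_eq_zero] at hv0
    rw [← hv0]
    funext i
    simp [Matrix.mulVec, dotProduct, Matrix.scalar_apply, Matrix.diagonal_apply]
  obtain ⟨v, hv, hMv⟩ := hev
  have hpow : ∀ k, (MK ^ k).mulVec v = z ^ k • v := fun k => by
    induction k with
    | zero => simp
    | succ k ih => rw [pow_succ, ← Matrix.mulVec_mulVec, hMv, Matrix.mulVec_smul, ih, smul_smul,
        pow_succ, mul_comm]
  have hzp : z ^ p = 1 := by
    have e := hpow p
    rw [hMK, ← map_pow, hp, map_one, Matrix.one_mulVec] at e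
    by_contra hne
    exact hv (funext fun i => by
      have := congrFun e i
      simp only [Pi.smul_apply, smul_eq_mul] at this
      by_contra hvi
      exact hne ((mul_eq_right₀ hvi).1 this.symm))
  have hz1 : z ≠ 1 := by
    intro e
    apply h1
    have hd : (MK - 1).det = 0 := by
      refine Matrix.exists_mulVec_eq_zero_iff.1 ⟨v, hv, ?_⟩
      rw [Matrix.sub_mulVec, hMv, e, one_smul, Matrix.one_mulVec, sub_self]
    rw [hMK, ← map_one φ.mapMatrix, ← map_sub, ← RingHom.map_det] at hd
    exact (map_eq_zero φ).1 hd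
  have hoz : orderOf z = p := orderOf_eq_prime hzp hz1
  -- the field has `2 ^ k` elements
  set k := r.natDegree with hk
  haveI : Module.Finite (ZMod 2) K := Module.Finite.of_basis (AdjoinRoot.powerBasis hr.ne_zero).basis
  have hcard : Nat.card K = 2 ^ k := by
    rw [Module.natCard_eq_pow_finrank (K := ZMod 2), Nat.card_zmod,
      (AdjoinRoot.powerBasis hr.ne_zero).finrank, AdjoinRoot.powerBasis_dim]
  haveI : Finite K := Nat.finite_of_card_ne_zero (by rw [hcard]; positivity)
  haveI := Fintype.ofFinite K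
  have hdvd : p ∣ 2 ^ k - 1 := by
    have hz0 : z ≠ 0 := fun e => by
      rw [e, zero_pow (Fact.out : p.Prime).ne_zero] at hzp; exact zero_ne_one hzp
    have := FiniteField.pow_card_sub_one_eq_one z hz0
    rw [← Nat.card_eq_fintype_card, hcard] at this
    exact hoz ▸ orderOf_dvd_of_pow_eq_one this
  have hnk : n ∣ k := by
    rw [← hord]
    refine orderOf_dvd_of_pow_eq_one ?_
    have e : ((2 ^ k - 1 : ℕ) : ZMod p) = 0 := (ZMod.natCast_eq_zero_iff _ _).2 hdvd
    rw [Nat.cast_sub Nat.one_le_two_pow, Nat.cast_pow, Nat.cast_one, sub_eq_zero] at e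
    exact_mod_cast e
  have hk0 : 0 < k := hr.natDegree_pos
  have hkn : k ≤ n := hdeg ▸ natDegree_le_of_dvd hrg (Matrix.charpoly_monic M).ne_zero
  have hkeq : k = n := le_antisymm hkn (Nat.le_of_dvd hk0 hnk)
  have : r = g := (eq_of_monic_of_dvd_of_natDegree_le hrmon (Matrix.charpoly_monic M) hrg
    (by rw [hdeg, ← hkeq])).symm
  exact this ▸ hr

/-- A monic polynomial over the `2`-adic integers with irreducible reduction is separable. -/
theorem separable_of_red [Fact (Nat.Prime 2)] {f : ℤ_[2][X]} (hf : f.Monic)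
    (hirr : Irreducible (f.map (PadicInt.toZMod (p := 2)))) : f.Separable := by
  set φ : ℤ_[2] →+* ZMod 2 := PadicInt.toZMod
  have hsep : (f.map φ).Separable := PerfectField.separable_of_irreducible hirr
  set m := f.natDegree with hm
  have hdm : (f.map φ).natDegree = m := hf.natDegree_map φ
  have h2 : IsUnit (resultant (f.map φ) (derivative (f.map φ))) :=
    (isUnit_resultant_iff_isCoprime (hf.map φ)).2 hsep
  obtain ⟨j, hj⟩ := Nat.exists_eq_add_of_le (show (derivative (f.map φ)).natDegree ≤
    (derivative f).natDegree by rw [derivative_map]; exact natDegree_map_le)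
  have e : φ (resultant f (derivative f)) = resultant (f.map φ) (derivative (f.map φ)) := by
    rw [← resultant_map_map, ← derivative_map, hj, resultant_add_right_deg _ _ _ _ _ le_rfl,
      ← hf.natDegree_map φ,
      show (f.map φ).coeff (f.map φ).natDegree = 1 from hf.map φ, one_pow, one_mul]
  have hu : IsUnit (resultant f (derivative f)) := by
    by_contra hnu
    have hmem : resultant f (derivative f) ∈ RingHom.ker φ := by
      rw [PadicInt.ker_toZMod]; exact (IsLocalRing.mem_maximalIdeal _).2 hnu
    rw [RingHom.mem_ker, e] at hmem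
    exact h2.ne_zero hmem
  exact (isUnit_resultant_iff_isCoprime hf).1 hu

/-- The trace of the powers of an endomorphism with distinct eigenvalues. -/
theorem trace_pow_of_roots {V : Type*} [AddCommGroup V] [Module ℂ V] [FiniteDimensional ℂ V]
    (f : Module.End ℂ V) (S : Finset ℂ) (hS : ∀ z ∈ S, f.HasEigenvalue z)
    (hcard : S.card = Module.finrank ℂ V) (i : ℕ) :
    LinearMap.trace ℂ V (f ^ i) = ∑ z ∈ S, z ^ i := by
  have hv : ∀ z : {z // z ∈ S}, ∃ v, f.HasEigenvector z.1 v := fun z =>
    (hS z.1 z.2).exists_hasEigenvector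
  choose v hv using hv
  have hli : LinearIndependent ℂ v :=
    Module.End.eigenvectors_linearIndependent' f (fun z : {z // z ∈ S} => z.1)
      Subtype.val_injective v hv
  by_cases hne : Nonempty {z // z ∈ S}
  · set b := basisOfLinearIndependentOfCardEqFinrank hli (by rw [Fintype.card_coe, hcard]) with hb
    rw [LinearMap.trace_eq_matrix_trace ℂ b, Matrix.trace, ← Finset.sum_coe_sort S (fun z => z ^ i)]
    refine Finset.sum_congr rfl fun z _ => ?_
    rw [Matrix.diag_apply, LinearMap.toMatrix_apply]
    have e : (f ^ i) (b z) = z.1 ^ i • b z := by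
      rw [hb, coe_basisOfLinearIndependentOfCardEqFinrank]
      exact (hv z).pow_apply i
    rw [e, map_smul, Finsupp.smul_apply, b.repr_self, Finsupp.single_eq_same, smul_eq_mul, mul_one]
  · have hS0 : S = ∅ := Finset.eq_empty_of_forall_notMem fun z hz => hne ⟨⟨z, hz⟩⟩
    haveI : Subsingleton V := Module.finrank_zero_iff.1 (by rw [← hcard, hS0, Finset.card_empty])
    rw [show f ^ i = 0 from LinearMap.ext fun x => Subsingleton.elim _ _, map_zero, hS0,
      Finset.sum_empty]

/-- **The character**: faithful of degree `n`, with `n` distinct non-trivial values on `⟨x⟩`. -/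
theorem exists_character {A : Type u} [Group A] [Finite A] [Fact p.Prime]
    (hA : Odd (Nat.card A)) (hn : 0 < n) (hord : orderOf (2 : ZMod p) = n)
    (ρ : A →* Matrix (Fin n) (Fin n) (ZMod 2)) (hρ : Function.Injective ρ)
    {x : A} (hx : x ^ p = 1) (hdet : (ρ x - 1).det ≠ 0) :
    ∃ (θ : A → ℂ) (S : Finset ℂ), IsCharacter A θ ∧ θ 1 = n ∧ (∀ g, θ g = θ 1 → g = 1) ∧
      (∀ z ∈ S, z ^ p = 1 ∧ z ≠ 1) ∧ ∀ i : ℕ, θ (x ^ i) = ∑ z ∈ S, z ^ i := by
  haveI : Fact (Nat.Prime 2) := ⟨Nat.prime_two⟩
  obtain ⟨ρ', hρ'⟩ := exists_padic_lift (Nat.coprime_two_right.2 hA) ρ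
  obtain ⟨j⟩ := DefectOne.exists_ringEquiv_complex 2
  set ι : ℤ_[2] →+* ℂ := (j.toRingHom.comp (algebraMap ℚ_[2] (AlgebraicClosure ℚ_[2]))).comp
    PadicInt.Coe.ringHom with hι
  have hιinj : Function.Injective ι := fun a b e => by
    simp only [hι, RingHom.comp_apply] at e
    exact Subtype.val_injective ((algebraMap ℚ_[2] (AlgebraicClosure ℚ_[2])).injective
      (j.injective e))
  set σ : A →* Matrix (Fin n) (Fin n) ℂ := (ι.mapMatrix.toMonoidHom).comp ρ' with hσ
  set R : Representation ℂ A (Fin n → ℂ) := (Matrix.toLinAlgEquiv'.toMonoidHom).comp σ with hR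
  have hchar : IsCharacter A R.character := ⟨n, R, rfl⟩
  have hσinj : Function.Injective σ := fun a b e => hρ (by
    have e' : ρ' a = ρ' b := Matrix.ext fun i k => hιinj (congrFun (congrFun e i) k)
    rw [← hρ' a, ← hρ' b, e'])
  set f := (ρ' x).charpoly with hf
  have hfbar : f.map (PadicInt.toZMod (p := 2)) = (ρ x).charpoly := by
    rw [hf, ← Matrix.charpoly_map, ← RingHom.mapMatrix_apply, hρ']
  have hfsep : f.Separable := separable_of_red (Matrix.charpoly_monic _) (by
    rw [hfbar]
    exact charpoly_irreducible hn hord _ (by rw [← map_pow, hx, map_one]) hdet)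
  have hcharC : (σ x).charpoly = f.map ι := by rw [hf, ← Matrix.charpoly_map]; rfl
  have hnd : (σ x).charpoly.roots.Nodup := nodup_roots (by rw [hcharC]; exact hfsep.map)
  set S := (σ x).charpoly.roots.toFinset with hS
  have hScard : S.card = n := by
    rw [hS, Multiset.toFinset_card_of_nodup hnd,
      IsAlgClosed.card_roots_eq_natDegree, Matrix.charpoly_natDegree_eq_dim, Fintype.card_fin]
  have hev : ∀ z ∈ S, Module.End.HasEigenvalue (R x) z := fun z hz => by
    have hz' := (mem_roots (Matrix.charpoly_monic _).ne_zero).1 (Multiset.mem_toFinset.1 hz)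
    rw [Module.End.hasEigenvalue_iff_isRoot_charpoly]
    rwa [show R x = Matrix.toLin' (σ x) from rfl, Matrix.charpoly_toLin']
  have htr : ∀ i : ℕ, R.character (x ^ i) = ∑ z ∈ S, z ^ i := fun i => by
    rw [Representation.character, map_pow]
    exact trace_pow_of_roots (R x) S hev (by rw [hScard, Module.finrank_fintype_fun_eq_card,
      Fintype.card_fin]) i
  refine ⟨R.character, S, hchar, ?_, fun g hg => ?_, fun z hz => ?_, htr⟩
  · rw [R.char_one, Module.finrank_fintype_fun_eq_card, Fintype.card_fin]
  · have hker : g ∈ CharInt.charKernel hchar := hg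
    rw [CharInt.charKernel_eq_ker R hchar] at hker
    refine hσinj ?_
    rw [map_one]
    exact Matrix.toLinAlgEquiv'.injective
      ((MonoidHom.mem_ker.1 hker).trans (map_one Matrix.toLinAlgEquiv').symm)
  · obtain ⟨v, hv⟩ := (hev z hz).exists_hasEigenvector
    refine ⟨?_, fun e => ?_⟩
    · have := hv.pow_apply p
      rw [← map_pow, hx, map_one, Module.End.one_apply] at this
      by_contra hne
      have h0 : (1 - z ^ p) • v = 0 := by rw [sub_smul, one_smul, ← this, sub_self]
      exact hv.2 ((smul_eq_zero.1 h0).resolve_left (sub_ne_zero.2 (Ne.symm hne)))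
    · have hd : (σ x - 1).det = 0 := by
        refine Matrix.exists_mulVec_eq_zero_iff.1 ⟨v, hv.2, ?_⟩
        have e1 : Matrix.mulVec (σ x) v = z • v := hv.apply_eq_smul
        rw [Matrix.sub_mulVec, e1, e, one_smul, Matrix.one_mulVec, sub_self]
      have e2 : σ x - 1 = ι.mapMatrix (ρ' x - 1) := by rw [map_sub, map_one]; rfl
      rw [e2, ← RingHom.map_det] at hd
      have h0 : (ρ' x - 1).det = 0 := hιinj (hd.trans (map_zero ι).symm)
      apply hdet
      rw [← hρ' x, ← map_one (PadicInt.toZMod (p := 2)).mapMatrix, ← map_sub, ← RingHom.map_det, h0,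
        map_zero]

end Cfsg.Agent.OddLinear
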