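import Cfsg.Agent.Lib.OddLinear.Induced
import Cfsg.Agent.Lib.Char.RealChar

/-!
# The exceptional family

The characters of `C` non-trivial at `x₀` and trivial on the centre form a set `J`; an irreducible
character of `G` that is not constant on `J` lies in a family indexed by the orbits in `J`, with
common constant, sign and multiplicity of the principal character.
-/

set_option autoImplicit false
set_option linter.style.haveILetI false
set_option linter.unusedSectionVars false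

namespace Cfsg.Agent.OddLinear

open Finset
open scoped ComplexConjugate Classical

universe u

variable {G : Type u} [Group G] {C N : Subgroup G} {x0 : G} {p : ℕ}
  [Fintype G] [Fintype ↥C] [Fintype ↥N]

/-- Non-trivial at `x₀`, trivial on the centre. -/
def Ctx.InJ (h : Ctx C N x0 p) (ρ : ↥C →* ℂˣ) : Prop :=
  ρ h.y0 ≠ 1 ∧ ∀ x : ↥C, (x : G) ∈ Subgroup.center G → ρ x = 1

theorem Ctx.InJ.orb {h : Ctx C N x0 p} {ρ ν : ↥C →* ℂˣ} (hρ : h.InJ ρ) (hν : ν ∈ h.orb ρ) :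
    h.InJ ν :=
  ⟨h.orb_y0_ne hρ.1 hν, fun x hx => (h.orb_center hν hx).trans (hρ.2 x hx)⟩

theorem Ctx.InJ.inv {h : Ctx C N x0 p} {ρ : ↥C →* ℂˣ} (hρ : h.InJ ρ) : h.InJ ρ⁻¹ :=
  ⟨fun e => hρ.1 (inv_eq_one.1 (by simpa using e)), fun x hx => by
    simp [hρ.2 x hx]⟩

theorem Ctx.InJ.one_notMem_orb {h : Ctx C N x0 p} {ρ : ↥C →* ℂˣ} (hρ : h.InJ ρ) :
    (1 : ↥C →* ℂˣ) ∉ h.orb ρ := fun e => (hρ.orb e).1 rfl

theorem Ctx.inv_mem_orb_inv (h : Ctx C N x0 p) {ρ ν : ↥C →* ℂˣ} (hν : ν ∈ h.orb ρ) :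
    ν⁻¹ ∈ h.orb ρ⁻¹ := by
  obtain ⟨n, -, rfl⟩ := Finset.mem_image.1 hν
  exact Finset.mem_image.2 ⟨n, Finset.mem_univ _, MonoidHom.ext fun x => by simp⟩

theorem Ctx.inv_notMem_orb (h : Ctx C N x0 p) {ρ : ↥C →* ℂˣ} (hρ : ρ h.y0 ≠ 1) :
    ρ⁻¹ ∉ h.orb ρ := fun e => h.orb_y0_ne_inv hρ e (MonoidHom.inv_apply ρ _)

theorem cn_orb (h : Ctx C N x0 p) (ω : IrrCharacter G) {μ ν : ↥C →* ℂˣ} (hν : ν ∈ h.orb μ) :
    cn C ω ν = cn C ω μ := by
  have e : (cn C ω ν : ℂ) = (cn C ω μ : ℂ) := by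
    rw [cn_spec, cn_spec]
    exact h.co_orb (Char.IsCharacter.isClassFunction (Char.irr_isCharacter ω)) hν
  exact_mod_cast e

/-- The coefficient pattern of a member of the family. -/
def Ctx.Pat (h : Ctx C N x0 p) (a ε b : ℤ) (ν : ↥C →* ℂˣ) (X : IrrCharacter G) : Prop :=
  cn C X 1 = b ∧ ∀ ρ, h.InJ ρ → cn C X ρ = a + if ρ ∈ h.orb ν then ε else 0

/-- **The family.** -/
theorem Ctx.exists_family (h : Ctx C N x0 p) (ω : IrrCharacter G) {ν0 ν1 : ↥C →* ℂˣ}
    (h0 : h.InJ ν0) (h1 : h.InJ ν1) (hne : cn C ω ν0 ≠ cn C ω ν1) :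
    ∃ a ε : ℤ, (ε = 1 ∨ ε = -1) ∧ ∀ ν, h.InJ ν → ∃! X, h.Pat a ε (cn C ω 1) ν X := by
  have hO01 : h.orb ν0 ≠ h.orb ν1 := fun e => hne (cn_orb h ω (e ▸ h.mem_orb_self ν1)).symm
  have hz : ∀ {μ ν : ↥C →* ℂˣ}, h.InJ μ → h.InJ ν →
      ∀ x : ↥C, (x : G) ∈ Subgroup.center G → μ x = ν x :=
    fun hμ hν x hx => (hμ.2 x hx).trans (hν.2 x hx).symm
  choose A B hAB hval hC hI using fun (ν : {ν // h.InJ ν ∧ h.orb ν0 ≠ h.orb ν}) =>
    h.exists_pair h0.1 ν.2.1.1 (hz h0 ν.2.1) ν.2.2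
  have hA : ∀ i, cn C (A i) ν0 - cn C (A i) i.1 = 1 := fun i => by
    rw [hval i, if_pos rfl, if_neg (hAB i)]; norm_num
  have hB : ∀ i, cn C (B i) ν0 - cn C (B i) i.1 = -1 := fun i => by
    rw [hval i, if_neg (hAB i).symm, if_pos rfl]; norm_num
  -- same orbit, same pair
  have hsame : ∀ i j, h.orb i.1 = h.orb j.1 → A i = A j ∧ B i = B j := by
    intro i j e
    have e1 : ∀ X : IrrCharacter G, cn C X i.1 = cn C X j.1 := fun X =>
      cn_orb h X (e ▸ h.mem_orb_self i.1)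
    constructor
    · have := hA i
      rw [e1, hval j] at this
      by_contra hne'
      rw [if_neg hne'] at this
      split_ifs at this <;> omega
    · have := hB i
      rw [e1, hval j] at this
      by_contra hne'
      rw [if_neg hne'] at this
      split_ifs at this <;> omega
  -- different orbits share exactly one member
  have hshare : ∀ i j, h.orb i.1 ≠ h.orb j.1 →
      (A i = A j ∧ B i ≠ B j) ∨ (A i ≠ A j ∧ B i = B j) := by
    intro i j e
    have e1 : (cn C (A j) ν0 - cn C (A j) i.1) - (cn C (B j) ν0 - cn C (B j) i.1) = 1 := by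
      have e0 := hC j ν0
      have e2 := hC j i.1
      rw [if_pos (h.mem_orb_self ν0), if_neg (h.orb_disjoint j.2.2 (h.mem_orb_self ν0))] at e0
      rw [if_neg (h.orb_disjoint i.2.2.symm (h.mem_orb_self i.1)),
        if_neg (h.orb_disjoint e (h.mem_orb_self i.1))] at e2
      linarith
    rw [hval i, hval i] at e1
    have a1 := hAB i
    have a2 := hAB j
    by_cases hh : A i = A j <;> by_cases hh' : B i = B j
    · rw [if_pos hh.symm, if_pos hh'.symm, if_neg (fun x => a1 (hh.trans x)),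
        if_neg (fun x => a1 (x.symm.trans hh'.symm))] at e1
      norm_num at e1
    · exact Or.inl ⟨hh, hh'⟩
    · exact Or.inr ⟨hh, hh'⟩
    · rw [if_neg (Ne.symm hh), if_neg (Ne.symm hh')] at e1
      split_ifs at e1 <;> omega
  obtain ⟨M, Y, ε, hε, hMY, hvalM, hCM⟩ : ∃ (M : IrrCharacter G)
      (Y : {ν // h.InJ ν ∧ h.orb ν0 ≠ h.orb ν} → IrrCharacter G) (ε : ℤ), (ε = 1 ∨ ε = -1) ∧
      (∀ i, M ≠ Y i) ∧ (∀ i X, cn C X ν0 - cn C X i.1 =
        ε * ((if X = M then 1 else 0) - (if X = Y i then 1 else 0))) ∧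
      (∀ i ρ, cn C M ρ - cn C (Y i) ρ =
        ε * ((if ρ ∈ h.orb ν0 then 1 else 0) - (if ρ ∈ h.orb i.1 then 1 else 0))) := by
    set i1 : {ν // h.InJ ν ∧ h.orb ν0 ≠ h.orb ν} := ⟨ν1, h1, hO01⟩
    by_cases hall : ∀ i, A i = A i1
    · refine ⟨A i1, B, 1, Or.inl rfl, fun i => hall i ▸ hAB i, fun i X => ?_, fun i ρ => ?_⟩
      · rw [hval i, hall i, one_mul]
      · have := hC i ρ; rw [hall i] at this; rw [this, one_mul]
    · push Not at hall
      obtain ⟨k, hk⟩ := hall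
      have hkO : h.orb k.1 ≠ h.orb i1.1 := fun e => hk (hsame k i1 e).1
      have hkB : B k = B i1 := ((hshare k i1 hkO).resolve_left fun x => hk x.1).2
      have hallB : ∀ i, B i = B i1 := by
        intro i
        by_contra hi
        have hiO : h.orb i.1 ≠ h.orb i1.1 := fun e => hi (hsame i i1 e).2
        have hiA : A i = A i1 := ((hshare i i1 hiO).resolve_right fun x => hi x.2).1
        have hikO : h.orb i.1 ≠ h.orb k.1 := fun e => hk ((hsame i k e).1 ▸ hiA)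
        rcases hshare i k hikO with ⟨x, -⟩ | ⟨-, x⟩
        · exact hk (x ▸ hiA)
        · exact hi (x.trans hkB)
      refine ⟨B i1, A, -1, Or.inr rfl, fun i => hallB i ▸ (hAB i).symm, fun i X => ?_, fun i ρ => ?_⟩
      · rw [hval i, hallB i]; ring
      · have := hC i ρ; rw [hallB i] at this; linarith
  set a := cn C M ν0 - ε with ha
  have hM0 : ∀ ρ, h.InJ ρ → cn C M ρ = a + if ρ ∈ h.orb ν0 then ε else 0 := by
    intro ρ hρ
    by_cases hmem : ρ ∈ h.orb ν0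
    · rw [if_pos hmem, cn_orb h M hmem, ha]; ring
    · rw [if_neg hmem]
      have := hvalM ⟨ρ, hρ, fun e => hmem (e ▸ h.mem_orb_self ρ)⟩ M
      rw [if_pos rfl, if_neg (hMY _)] at this
      linarith
  have hY1 : ∀ i, cn C (Y i) 1 = cn C M 1 := fun i => by
    have := hCM i 1
    rw [if_neg h0.one_notMem_orb, if_neg i.2.1.one_notMem_orb, sub_self, mul_zero] at this
    linarith
  have hYpat : ∀ i, ∀ ρ, h.InJ ρ → cn C (Y i) ρ = a + if ρ ∈ h.orb i.1 then ε else 0 := by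
    intro i ρ hρ
    have e := hCM i ρ
    have e2 := hM0 ρ hρ
    by_cases q1 : ρ ∈ h.orb ν0
    · rw [if_pos q1, if_neg (h.orb_disjoint i.2.2 q1)] at e
      rw [if_pos q1] at e2
      rw [if_neg (h.orb_disjoint i.2.2 q1)]
      linarith
    · rw [if_neg q1] at e e2
      split_ifs at e ⊢ with q2 <;> linarith
  -- `ω` is one of them
  have hωb : cn C ω 1 = cn C M 1 := by
    have := hvalM ⟨ν1, h1, hO01⟩ ω
    by_cases q1 : ω = M
    · rw [q1]
    · by_cases q2 : ω = Y ⟨ν1, h1, hO01⟩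
      · rw [q2, hY1]
      · rw [if_neg q1, if_neg q2, sub_self, mul_zero, sub_eq_zero] at this
        exact absurd this hne
  refine ⟨a, ε, hε, fun ν hν => ?_⟩
  by_cases hνO : h.orb ν0 = h.orb ν
  · refine ⟨M, ⟨hωb.symm, fun ρ hρ => by rw [← hνO]; exact hM0 ρ hρ⟩, fun X hX => ?_⟩
    have e := hvalM ⟨ν1, h1, hO01⟩ X
    rw [hX.2 ν0 h0, if_pos (hνO ▸ h.mem_orb_self ν0), hX.2 ν1 h1,
      if_neg (hνO ▸ h.orb_disjoint hO01.symm (h.mem_orb_self ν1))] at e
    by_contra hXM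
    rw [if_neg hXM] at e
    split_ifs at e <;> rcases hε with rfl | rfl <;> linarith
  · set i : {ν // h.InJ ν ∧ h.orb ν0 ≠ h.orb ν} := ⟨ν, hν, hνO⟩
    refine ⟨Y i, ⟨(hY1 i).trans hωb.symm, hYpat i⟩, fun X hX => ?_⟩
    have e := hvalM i X
    rw [hX.2 ν0 h0, if_neg (h.orb_disjoint hνO (h.mem_orb_self ν0)), hX.2 i.1 hν,
      if_pos (h.mem_orb_self _)] at e
    by_contra hXY
    rw [if_neg hXY] at e
    split_ifs at e <;> rcases hε with rfl | rfl <;> linarith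

end Cfsg.Agent.OddLinear
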