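import Cfsg.Agent.Lib.OddLinear.Orbit
import Cfsg.Agent.Lib.DefectOne.Vectors

/-!
# Induction from the trivial-intersection set and the pairs of exceptional characters
-/

set_option autoImplicit false
set_option linter.style.haveILetI false
set_option linter.unusedSectionVars false

namespace Cfsg.Agent.OddLinear

open Finset
open scoped ComplexConjugate Classical

universe u

variable {G : Type u} [Group G] {C N : Subgroup G} {x0 : G} {p : ℕ}
  [Fintype G] [Fintype ↥C] [Fintype ↥N]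

/-- Extension by zero from `C` to `N`. -/
noncomputable def extN (C N : Subgroup G) (f : ↥C → ℂ) (n : ↥N) : ℂ :=
  if hn : (n : G) ∈ C then f ⟨n, hn⟩ else 0

/-- The function induced to `G`. -/
noncomputable def Ph (C N : Subgroup G) (f : ↥C → ℂ) : G → ℂ := indFun N (extN C N f)

/-- `f` is invariant under `N` and vanishes on the centre. -/
def Ctx.Good (h : Ctx C N x0 p) (f : ↥C → ℂ) : Prop :=
  (∀ (n : ↥N) (x : ↥C), f (h.cj n x) = f x) ∧ ∀ x : ↥C, (x : G) ∈ Subgroup.center G → f x = 0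

theorem Ctx.extN_class (h : Ctx C N x0 p) {f : ↥C → ℂ} (hf : h.Good f) :
    IsClassFunction ↥N (extN C N f) := by
  intro g m
  by_cases hg : (g : G) ∈ C
  · have hmem : ((m * g * m⁻¹ : ↥N) : G) ∈ C := by
      have := h.conj_mem (m : G)⁻¹ (inv_mem m.2) g hg
      simpa using this
    rw [extN, extN, dif_pos hg, dif_pos hmem, ← hf.1 m⁻¹ ⟨g, hg⟩]
    congr 1
    exact Subtype.ext (by simp [h.cj_coe])
  · have hmem : ((m * g * m⁻¹ : ↥N) : G) ∉ C := fun e => hg (by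
      have := h.conj_mem (m : G) m.2 _ e
      simpa [mul_assoc] using this)
    rw [extN, extN, dif_neg hg, dif_neg hmem]

theorem Ctx.extN_supp (h : Ctx C N x0 p) {f : ↥C → ℂ} (hf : h.Good f) (x : ↥N)
    (hx : (x : G) ∉ {z : G | z ∈ C ∧ z ∉ Subgroup.center G}) : extN C N f x = 0 := by
  rw [extN]
  split_ifs with hc
  · exact hf.2 _ (by by_contra hz; exact hx ⟨hc, hz⟩)
  · rfl

theorem Ctx.ph_apply (h : Ctx C N x0 p) {f : ↥C → ℂ} (hf : h.Good f) (x : ↥C) :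
    Ph C N f x = f x := by
  by_cases hz : (x : G) ∈ Subgroup.center G
  · rw [hf.2 x hz, Ph, CharInt.indFun_eq_zero_of_support (S := {z : G | z ∈ C ∧ z ∉ Subgroup.center G})
      (h.extN_supp hf)]
    intro y hy
    exact hy.2 (by
      rw [mul_assoc, ← Subgroup.mem_center_iff.1 hz y, inv_mul_cancel_left]
      exact hz)
  · have key := CharInt.indFun_eq_of_ti (S := {z : G | z ∈ C ∧ z ∉ Subgroup.center G})
      (fun g s hs hg => h.ti g s hs.1 hs.2 hg.1) (h.extN_class hf) (h.extN_supp hf)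
      (t := ⟨x, h.le x.2⟩) ⟨x.2, hz⟩
    rw [Ph]
    refine key.trans ?_
    rw [extN, dif_pos x.2]

theorem Ctx.card_N_ne_zero (_h : Ctx C N x0 p) : (Nat.card ↥N : ℂ) ≠ 0 :=
  Nat.cast_ne_zero.2 Nat.card_pos.ne'

theorem Ctx.inner_ph (h : Ctx C N x0 p) {f : ↥C → ℂ} {Ψ : G → ℂ} (hΨ : IsClassFunction G Ψ) :
    classInner Ψ (Ph C N f) =
      (Nat.card ↥C : ℂ) / (Nat.card ↥N : ℂ) * classInner (fun x : ↥C => Ψ x) f := by
  have e : ∑ n : ↥N, Ψ n * conj (extN C N f n) = ∑ x : ↥C, Ψ x * conj (f x) := by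
    rw [← Finset.sum_filter_add_sum_filter_not Finset.univ (fun n : ↥N => (n : G) ∈ C),
      Finset.sum_eq_zero (s := Finset.univ.filter fun n : ↥N => ¬ (n : G) ∈ C) (fun n hn => by
        rw [extN, dif_neg (Finset.mem_filter.1 hn).2, map_zero, mul_zero]), add_zero]
    refine Finset.sum_bij (fun n hn => (⟨(n : G), (Finset.mem_filter.1 hn).2⟩ : ↥C))
      (fun n hn => Finset.mem_univ _) (fun a _ b _ hab => Subtype.ext (congrArg Subtype.val hab :))
      (fun x _ => ⟨⟨x, h.le x.2⟩, Finset.mem_filter.2 ⟨Finset.mem_univ _, x.2⟩, rfl⟩) ?_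
    intro n hn
    rw [extN, dif_pos (Finset.mem_filter.1 hn).2]
  rw [Ph, Char.classInner_indFun_right N _ hΨ, classInner, classInner, e]
  have hC : (Nat.card ↥C : ℂ) ≠ 0 := Nat.cast_ne_zero.2 Nat.card_pos.ne'
  field_simp

theorem Ctx.co_cj (h : Ctx C N x0 p) {Ψ : G → ℂ} (hΨ : IsClassFunction G Ψ) (n : ↥N)
    (μ : ↥C →* ℂˣ) : co C Ψ (μ.comp (h.cj n)) = co C Ψ μ := by
  have hbij : Function.Bijective (h.cj n) := by
    refine (Fintype.bijective_iff_injective_and_card _).2 ⟨fun a b e => ?_, rfl⟩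
    have e' := congrArg Subtype.val e
    simp only [h.cj_coe] at e'
    exact Subtype.ext (mul_left_cancel (mul_right_cancel e'))
  simp only [co, classInner]
  congr 1
  refine Fintype.sum_bijective _ hbij _ _ fun x => ?_
  rw [h.cj_coe, show Ψ ((n : G)⁻¹ * x * n) = Ψ x by
    have := hΨ (x : G) (n : G)⁻¹; rwa [inv_inv] at this]
  rfl

theorem Ctx.co_orb (h : Ctx C N x0 p) {Ψ : G → ℂ} (hΨ : IsClassFunction G Ψ) {μ ν : ↥C →* ℂˣ}
    (hν : ν ∈ h.orb μ) : co C Ψ ν = co C Ψ μ := by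
  obtain ⟨n, -, rfl⟩ := Finset.mem_image.1 hν
  exact h.co_cj hΨ n μ

/-- The difference of two orbit sums. -/
noncomputable def Ctx.osd (h : Ctx C N x0 p) (μ ν : ↥C →* ℂˣ) : ↥C → ℂ :=
  ∑ ρ ∈ h.orb μ, ev ρ - ∑ ρ ∈ h.orb ν, ev ρ

theorem Ctx.sum_orb_cj (h : Ctx C N x0 p) (μ : ↥C →* ℂˣ) (n : ↥N) (x : ↥C) :
    (∑ ρ ∈ h.orb μ, ev ρ) (h.cj n x) = (∑ ρ ∈ h.orb μ, ev ρ) x := by
  simp only [Finset.sum_apply]
  refine Finset.sum_bij (fun ρ _ => ρ.comp (h.cj n)) (fun ρ hρ => ?_) (fun a _ b _ e => ?_)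
    (fun ρ hρ => ?_) (fun ρ _ => rfl)
  · rw [← h.orb_eq hρ]; exact Finset.mem_image.2 ⟨n, Finset.mem_univ _, rfl⟩
  · refine MonoidHom.ext fun y => ?_
    have := DFunLike.congr_fun e (h.cj n⁻¹ y)
    simp only [MonoidHom.comp_apply] at this
    rwa [show h.cj n (h.cj n⁻¹ y) = y from Subtype.ext (by simp [h.cj_coe, mul_assoc])] at this
  · refine ⟨ρ.comp (h.cj n⁻¹), ?_, ?_⟩
    · rw [← h.orb_eq hρ]; exact Finset.mem_image.2 ⟨n⁻¹, Finset.mem_univ _, rfl⟩
    · exact MonoidHom.ext fun y => congrArg ρ (Subtype.ext (by simp [h.cj_coe, mul_assoc]))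

theorem Ctx.orb_center (h : Ctx C N x0 p) {μ ρ : ↥C →* ℂˣ} (hρ : ρ ∈ h.orb μ) {x : ↥C}
    (hx : (x : G) ∈ Subgroup.center G) : ρ x = μ x := by
  obtain ⟨n, -, rfl⟩ := Finset.mem_image.1 hρ
  exact congrArg μ (Subtype.ext (by
    rw [h.cj_coe, mul_assoc, ← Subgroup.mem_center_iff.1 hx n, inv_mul_cancel_left]))

theorem Ctx.osd_good (h : Ctx C N x0 p) {μ ν : ↥C →* ℂˣ} (hμ : μ h.y0 ≠ 1) (hν : ν h.y0 ≠ 1)
    (hz : ∀ x : ↥C, (x : G) ∈ Subgroup.center G → μ x = ν x) : h.Good (h.osd μ ν) := by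
  refine ⟨fun n x => by simp only [Ctx.osd, Pi.sub_apply, h.sum_orb_cj], fun x hx => ?_⟩
  simp only [Ctx.osd, Pi.sub_apply, Finset.sum_apply]
  have hcard : (h.orb μ).card = (h.orb ν).card :=
    Nat.eq_of_mul_eq_mul_right Nat.card_pos ((h.card_orb hμ).trans (h.card_orb hν).symm)
  rw [Finset.sum_congr rfl (fun ρ hρ => show ev ρ x = ev μ x by rw [ev, h.orb_center hρ hx]; rfl),
    Finset.sum_congr rfl (fun ρ hρ => show ev ρ x = ev ν x by rw [ev, h.orb_center hρ hx]; rfl),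
    Finset.sum_const, Finset.sum_const, hcard, show ev μ x = ev ν x by rw [ev, hz x hx]; rfl, sub_self]

theorem Ctx.inner_osd (h : Ctx C N x0 p) {Ψ : G → ℂ} (hΨ : IsClassFunction G Ψ)
    {μ ν : ↥C →* ℂˣ} (hμ : μ h.y0 ≠ 1) (hν : ν h.y0 ≠ 1) :
    classInner Ψ (Ph C N (h.osd μ ν)) = co C Ψ μ - co C Ψ ν := by
  have hs : ∀ μ : ↥C →* ℂˣ, μ h.y0 ≠ 1 → classInner (fun x : ↥C => Ψ x) (∑ ρ ∈ h.orb μ, ev ρ) =
      (Nat.card ↥N : ℂ) / (Nat.card ↥C : ℂ) * co C Ψ μ := fun μ hμ => by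
    rw [Char.classInner_sum_right, Finset.sum_congr rfl (fun ρ hρ => show
      classInner (fun x : ↥C => Ψ x) (ev ρ) = co C Ψ μ from h.co_orb hΨ hρ), Finset.sum_const,
      nsmul_eq_mul, ← h.card_orb hμ, Nat.cast_mul, mul_div_assoc,
      div_self (Nat.cast_ne_zero.2 Nat.card_pos.ne'), mul_one]
  rw [h.inner_ph hΨ, Ctx.osd, Char.classInner_sub_right, hs μ hμ, hs ν hν]
  have hC : (Nat.card ↥C : ℂ) ≠ 0 := Nat.cast_ne_zero.2 Nat.card_pos.ne'
  have hN := h.card_N_ne_zero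
  field_simp

theorem Ctx.co_ph_osd (h : Ctx C N x0 p) {μ ν : ↥C →* ℂˣ} (hμ : μ h.y0 ≠ 1) (hν : ν h.y0 ≠ 1)
    (hz : ∀ x : ↥C, (x : G) ∈ Subgroup.center G → μ x = ν x) (ρ : ↥C →* ℂˣ) :
    co C (Ph C N (h.osd μ ν)) ρ =
      (if ρ ∈ h.orb μ then 1 else 0) - (if ρ ∈ h.orb ν then 1 else 0) := by
  rw [co, show (fun x : ↥C => Ph C N (h.osd μ ν) x) = h.osd μ ν from
    funext fun x => h.ph_apply (h.osd_good hμ hν hz) x, Ctx.osd, Char.classInner_sub_left,
    Char.classInner_sum_left, Char.classInner_sum_left]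
  simp only [inner_ev, Finset.sum_ite_eq']

/-- **The pair**: the induced difference of two orbit sums is a difference of two irreducible
characters. -/
theorem Ctx.exists_pair (h : Ctx C N x0 p) {μ ν : ↥C →* ℂˣ} (hμ : μ h.y0 ≠ 1) (hν : ν h.y0 ≠ 1)
    (hz : ∀ x : ↥C, (x : G) ∈ Subgroup.center G → μ x = ν x) (hne : h.orb μ ≠ h.orb ν) :
    ∃ A B : IrrCharacter G, A ≠ B ∧
      (∀ ω : IrrCharacter G, cn C ω μ - cn C ω ν =
        (if ω = A then 1 else 0) - (if ω = B then 1 else 0)) ∧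
      (∀ ρ, cn C A ρ - cn C B ρ =
        (if ρ ∈ h.orb μ then 1 else 0) - (if ρ ∈ h.orb ν then 1 else 0)) ∧
      (∀ Ψ : G → ℂ, IsClassFunction G Ψ →
        classInner Ψ A.1 - classInner Ψ B.1 = co C Ψ μ - co C Ψ ν) := by
  set Φ := Ph C N (h.osd μ ν) with hΦ
  have hcl : IsClassFunction G Φ := Char.isClassFunction_indFun _ _
  set z : IrrCharacter G → ℤ := fun ω => cn C ω μ - cn C ω ν with hzdef
  have hco : ∀ ω : IrrCharacter G, classInner Φ ω.1 = (z ω : ℂ) := fun ω => by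
    rw [← Char.conj_classInner, h.inner_osd (Char.IsCharacter.isClassFunction
      (Char.irr_isCharacter ω)) hμ hν, ← cn_spec, ← cn_spec, ← Int.cast_sub, map_intCast]
  have hdec : Φ = ∑ ω : IrrCharacter G, (z ω : ℂ) • ω.1 := by
    have := Char.eq_sum_classInner_smul hcl
    simpa only [hco] using this
  have hnorm : classInner Φ Φ = 2 := by
    have e := h.inner_osd (μ := μ) (ν := ν) hcl hμ hν
    rw [h.co_ph_osd hμ hν hz, h.co_ph_osd hμ hν hz, if_pos (h.mem_orb_self μ),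
      if_neg (h.orb_disjoint hne (h.mem_orb_self μ)), if_neg (h.orb_disjoint (Ne.symm hne)
        (h.mem_orb_self ν)), if_pos (h.mem_orb_self ν)] at e
    rw [e]; norm_num
  have h2 : ∑ ω, z ω ^ 2 = 2 := by
    have e : classInner Φ Φ = ((∑ ω, z ω ^ 2 : ℤ) : ℂ) := by
      conv_lhs => arg 2; rw [hdec]
      rw [Char.classInner_sum_right]
      push_cast
      refine Finset.sum_congr rfl fun ω _ => ?_
      rw [Char.classInner_smul_right, hco, map_intCast]; ring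
    rw [hnorm] at e
    exact_mod_cast e.symm
  have hone : Φ 1 = 0 := by
    rw [hΦ, Ph, Char.indFun_apply_one, extN, dif_pos (show ((1 : ↥N) : G) ∈ C from one_mem C),
      show h.osd μ ν ⟨((1 : ↥N) : G), one_mem C⟩ = 0 from
        (h.osd_good hμ hν hz).2 _ (one_mem _), mul_zero]
  have h0 : ∑ ω, (Char.degree ω : ℤ) * z ω = 0 := by
    have e := congrFun hdec 1
    rw [hone, Finset.sum_apply] at e
    simp only [Pi.smul_apply, smul_eq_mul, Char.apply_one_eq_degree] at e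
    have e' : ((∑ ω, (Char.degree ω : ℤ) * z ω : ℤ) : ℂ) = 0 := by
      push_cast; rw [e]; exact Finset.sum_congr rfl fun ω _ => mul_comm _ _
    exact_mod_cast e'
  obtain ⟨A, B, hAB, hzAB⟩ := DefectOne.eq_diff_of_norm_two
    (D := fun ω => (Char.degree ω : ℤ)) (fun ω => by exact_mod_cast Char.degree_pos ω) h0 h2
  have hval : ∀ ω, z ω = (if ω = A then 1 else 0) - (if ω = B then 1 else 0) := fun ω => by
    rw [hzAB, Pi.sub_apply, Pi.single_apply, Pi.single_apply]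
  have hAB' : Φ = A.1 - B.1 := by
    rw [hdec]
    simp only [hval, Int.cast_sub, Int.cast_ite, Int.cast_one, Int.cast_zero, sub_smul,
      Finset.sum_sub_distrib, ite_smul, one_smul, zero_smul, Finset.sum_ite_eq', Finset.mem_univ,
      if_true]
  refine ⟨A, B, hAB, hval, fun ρ => ?_, fun Ψ hΨ => ?_⟩
  · have e := h.co_ph_osd hμ hν hz ρ
    rw [← hΦ, hAB', co_sub, ← cn_spec, ← cn_spec] at e
    exact_mod_cast e
  · rw [← h.inner_osd hΨ hμ hν, ← hΦ, hAB', Char.classInner_sub_right]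

end Cfsg.Agent.OddLinear
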