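import Cfsg.Agent.Lib.OddLinear.Small
import Cfsg.Agent.Lib.OddLinear.Eigen
import Mathlib.RingTheory.LittleWedderburn
import Mathlib.RingTheory.IntegralDomain
import Mathlib.GroupTheory.PGroup

/-!
# A primitive prime divisor of `2 ^ n - 1` in an odd order subgroup of `GL n 2`

The elements of that prime order generate a normal subgroup.
-/

set_option autoImplicit false
set_option linter.style.haveILetI false
set_option linter.unusedSectionVars false

namespace Cfsg.Agent.OddLinear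

open Finset
open scoped Classical

universe u

variable {n p : ℕ}

theorem p_ne_two [Fact p.Prime] (hn : 0 < n) (hord : orderOf (2 : ZMod p) = n) : p ≠ 2 := by
  rintro rfl
  have h0 : (2 : ZMod 2) = 0 := ZMod.natCast_self 2
  rw [h0] at hord
  have := (pow_orderOf_eq_one (0 : ZMod 2))
  rw [hord, zero_pow hn.ne'] at this
  exact zero_ne_one this

theorem dvd_pred [Fact p.Prime] (hn : 0 < n) (hord : orderOf (2 : ZMod p) = n) : n ∣ p - 1 := by
  rw [← hord]
  refine orderOf_dvd_of_pow_eq_one (ZMod.pow_card_sub_one_eq_one fun h => ?_)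
  rw [h] at hord
  have := (pow_orderOf_eq_one (0 : ZMod p))
  rw [hord, zero_pow hn.ne'] at this
  exact zero_ne_one this

theorem dvd_of_pow (hord : orderOf (2 : ZMod p) = n) {k : ℕ} (h : (2 : ZMod p) ^ k = 1) : n ∣ k :=
  hord ▸ orderOf_dvd_of_pow_eq_one h

theorem eq_or_eq_of_invariant [Fact p.Prime] (hn : 0 < n) (hord : orderOf (2 : ZMod p) = n)
    (M : Matrix (Fin n) (Fin n) (ZMod 2)) (hp : M ^ p = 1)
    (W : Submodule (ZMod 2) (Fin n → ZMod 2)) (hW : ∀ v ∈ W, M.mulVec v ∈ W)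
    (hfix : ∀ v ∈ W, M.mulVec v = v → v = 0) : W = ⊥ ∨ W = ⊤ := by
  haveI : Fact (Nat.Prime 2) := ⟨Nat.prime_two⟩
  let f : Function.End ↥W := fun w => ⟨M.mulVec w, hW w w.2⟩
  have hfp : ∀ (k : ℕ) (w : ↥W), ((f ^ k) w : Fin n → ZMod 2) = (M ^ k).mulVec w := fun k => by
    induction k with
    | zero => intro w; simp [Function.End.one_def]
    | succ k ih => intro w; rw [pow_succ' f, pow_succ' M, ← Matrix.mulVec_mulVec, ← ih]; rfl
  have hfpow : f ^ p = 1 := funext fun w => Subtype.ext (by rw [hfp, hp, Matrix.one_mulVec]; rfl)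
  have hmod : Fintype.card ↥W ≡ 1 [MOD p ^ 1] → W = ⊥ ∨ W = ⊤ := by
    intro h
    rw [pow_one] at h
    have hcard : Fintype.card ↥W = 2 ^ Module.finrank (ZMod 2) ↥W := by
      rw [Module.card_eq_pow_finrank (K := ZMod 2), ZMod.card]
    rw [hcard, ← ZMod.natCast_eq_natCast_iff, Nat.cast_pow, Nat.cast_one] at h
    have hdvd : n ∣ Module.finrank (ZMod 2) ↥W := dvd_of_pow hord (by exact_mod_cast h)
    rcases Nat.eq_zero_or_pos (Module.finrank (ZMod 2) ↥W) with h0 | h0
    · exact Or.inl (Submodule.finrank_eq_zero.1 h0)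
    · refine Or.inr (Submodule.eq_top_of_finrank_eq (le_antisymm (Submodule.finrank_le W) ?_))
      rw [Module.finrank_fintype_fun_eq_card, Fintype.card_fin]
      exact Nat.le_of_dvd h0 hdvd
  refine hmod ?_
  have key := Equiv.Perm.card_fixedPoints_modEq (p := p) (n := 1) (f := f) (by rw [pow_one]; exact hfpow)
  have hone : Fintype.card f.fixedPoints = 1 := by
    rw [Fintype.card_eq_one_iff]
    refine ⟨⟨0, Subtype.ext (Matrix.mulVec_zero M)⟩, fun w => Subtype.ext (Subtype.ext ?_)⟩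
    exact hfix _ w.1.2 (congrArg Subtype.val w.2)
  rw [hone] at key
  rw [pow_one]
  exact key

/-- An element of order `p` has no fixed vector. -/
theorem det_sub_one_ne_zero [Fact p.Prime] (hn : 0 < n) (hord : orderOf (2 : ZMod p) = n)
    (M : Matrix (Fin n) (Fin n) (ZMod 2)) (hp : M ^ p = 1) (hM : M ≠ 1) : (M - 1).det ≠ 0 := by
  haveI : Fact (Nat.Prime 2) := ⟨Nat.prime_two⟩
  intro hd
  obtain ⟨v₀, hv₀, hv₀'⟩ := Matrix.exists_mulVec_eq_zero_iff.2 hd
  let f : Function.End (Fin n → ZMod 2) := fun w => M.mulVec w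
  have hfp : ∀ (k : ℕ) w, (f ^ k) w = (M ^ k).mulVec w := fun k => by
    induction k with
    | zero => intro w; simp [Function.End.one_def]
    | succ k ih => intro w; rw [pow_succ' f, pow_succ' M, ← Matrix.mulVec_mulVec, ← ih]; rfl
  have key := Equiv.Perm.card_fixedPoints_modEq (p := p) (n := 1) (f := f)
    (by rw [pow_one]; exact funext fun w => by rw [hfp, hp, Matrix.one_mulVec]; rfl)
  let W := LinearMap.ker (M - 1).mulVecLin
  have hmem : ∀ v, v ∈ W ↔ M.mulVec v = v := fun v => by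
    simp [W, Matrix.sub_mulVec, sub_eq_zero]
  have hcard : Fintype.card f.fixedPoints = 2 ^ Module.finrank (ZMod 2) ↥W := by
    have e2 : Fintype.card ↥W = 2 ^ Module.finrank (ZMod 2) ↥W := by
      rw [Module.card_eq_pow_finrank (K := ZMod 2), ZMod.card]
    rw [← e2]
    exact Fintype.card_congr (Equiv.subtypeEquivRight fun v => (hmem v).symm)
  rw [hcard, Fintype.card_fun, ZMod.card, Fintype.card_fin] at key
  rw [    ← ZMod.natCast_eq_natCast_iff, Nat.cast_pow, Nat.cast_pow] at key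
  have h2 : ((2 : ℕ) : ZMod p) ^ n = 1 := by
    rw [← hord]; exact_mod_cast pow_orderOf_eq_one (2 : ZMod p)
  rw [h2] at key
  have hk : n ∣ Module.finrank (ZMod 2) ↥W :=
    dvd_of_pow hord (by exact_mod_cast key.symm)
  have hpos : 0 < Module.finrank (ZMod 2) ↥W := by
    rw [Module.finrank_pos_iff_exists_ne_zero]
    exact ⟨⟨v₀, hv₀'⟩, fun e => hv₀ (congrArg Subtype.val e)⟩
  have htop : W = ⊤ := by
    refine Submodule.eq_top_of_finrank_eq (le_antisymm (Submodule.finrank_le W) ?_)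
    rw [Module.finrank_fintype_fun_eq_card, Fintype.card_fin]
    exact Nat.le_of_dvd hpos hk
  exact hM (Matrix.ext_of_mulVec_single fun i => by
    rw [(hmem _).1 (htop ▸ Submodule.mem_top), Matrix.one_mulVec])

/-- The centraliser of an element of order `p` is cyclic and fixed-point free. -/
theorem centralizer_cyclic [Fact p.Prime] (hn : 0 < n) (hord : orderOf (2 : ZMod p) = n)
    {G : Type u} [Group G] [Finite G] (ρ : G →* Matrix (Fin n) (Fin n) (ZMod 2))
    (hρ : Function.Injective ρ) {x : G} (hx : orderOf x = p) :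
    IsCyclic ↥(Subgroup.centralizer {x}) ∧
      ∀ g ∈ Subgroup.centralizer {x}, g ≠ 1 → ∀ v, (ρ g).mulVec v = v → v = 0 := by
  haveI : Fact (Nat.Prime 2) := ⟨Nat.prime_two⟩
  haveI : Nonempty (Fin n) := ⟨⟨0, hn⟩⟩
  set M := ρ x with hM
  have hp : M ^ p = 1 := by rw [hM, ← map_pow, ← hx, pow_orderOf_eq_one, map_one]
  have hM1 : M ≠ 1 := fun e => (Fact.out : p.Prime).ne_one (by
    rw [← hx, orderOf_eq_one_iff.2 (hρ (e.trans (map_one ρ).symm))])
  have hfix : ∀ v, M.mulVec v = v → v = 0 := fun v hv => by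
    by_contra hne
    refine det_sub_one_ne_zero hn hord M hp hM1 (Matrix.exists_mulVec_eq_zero_iff.1 ⟨v, hne, ?_⟩)
    rw [Matrix.sub_mulVec, hv, Matrix.one_mulVec, sub_self]
  let E := Subring.centralizer ({M} : Set (Matrix (Fin n) (Fin n) (ZMod 2)))
  have hker : ∀ A : ↥E, A ≠ 0 → ∀ v, (A : Matrix (Fin n) (Fin n) (ZMod 2)).mulVec v = 0 → v = 0 := by
    intro A hA v hv
    rcases eq_or_eq_of_invariant hn hord M hp
      (LinearMap.ker (A : Matrix (Fin n) (Fin n) (ZMod 2)).mulVecLin)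
      (fun w hw => by
        rw [LinearMap.mem_ker, Matrix.mulVecLin_apply] at hw ⊢
        rw [Matrix.mulVec_mulVec, ← Subring.mem_centralizer_iff.1 A.2 M rfl,
          ← Matrix.mulVec_mulVec, hw, Matrix.mulVec_zero])
      (fun w _ => hfix w) with h | h
    · have : v ∈ LinearMap.ker (A : Matrix (Fin n) (Fin n) (ZMod 2)).mulVecLin := hv
      rw [h, Submodule.mem_bot] at this
      exact this
    · exfalso
      refine hA (Subtype.ext (Matrix.ext_of_mulVec_single fun i => ?_))
      have : Pi.single i (1 : ZMod 2) ∈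
          LinearMap.ker (A : Matrix (Fin n) (Fin n) (ZMod 2)).mulVecLin := h ▸ Submodule.mem_top
      exact (LinearMap.mem_ker.1 this).trans (Matrix.zero_mulVec _).symm
  haveI : NoZeroDivisors ↥E := ⟨fun {A B} hAB => by
    by_contra hne
    push Not at hne
    refine hne.2 (Subtype.ext (Matrix.ext_of_mulVec_single fun i => ?_))
    refine (hker A hne.1 _ ?_).trans (Matrix.zero_mulVec _).symm
    rw [Matrix.mulVec_mulVec, show ((A : Matrix (Fin n) (Fin n) (ZMod 2)) * B) = 0 from
      congrArg Subtype.val hAB, Matrix.zero_mulVec]⟩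
  haveI : IsDomain ↥E := NoZeroDivisors.to_isDomain _
  letI : Field ↥E := (Finite.isDomain_to_isField ↥E).toField
  let φ : ↥(Subgroup.centralizer {x}) →* ↥E :=
    { toFun := fun g => ⟨ρ g.1, Subring.mem_centralizer_iff.2 fun y hy => by
        rw [Set.mem_singleton_iff.1 hy, hM, ← map_mul, ← map_mul,
          Subgroup.mem_centralizer_singleton_iff.1 g.2]⟩
      map_one' := Subtype.ext (map_one ρ)
      map_mul' := fun a b => Subtype.ext (map_mul ρ _ _) }
  have hφ : Function.Injective φ := fun a b e => Subtype.ext (hρ (congrArg Subtype.val e))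
  refine ⟨isCyclic_of_subgroup_isDomain φ hφ, fun g hg hg1 v hv => ?_⟩
  refine hker (φ ⟨g, hg⟩ - 1) (sub_ne_zero.2 fun e => hg1 ?_) v ?_
  · exact congrArg Subtype.val (hφ (e.trans (map_one φ).symm))
  · show (ρ g - 1).mulVec v = 0
    rw [Matrix.sub_mulVec, hv, Matrix.one_mulVec, sub_self]

theorem sum_range_pow {w : ℂ} (hp : 0 < p) (hw : w ^ p = 1) :
    ∑ i ∈ Finset.range p, w ^ i = if w = 1 then (p : ℂ) else 0 := by
  split_ifs with h
  · simp [h]
  · have e := geom_sum_mul w p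
    rw [hw, sub_self, mul_eq_zero] at e
    exact e.resolve_right (sub_ne_zero.2 h)

/-- The multiplicities of the eigenvalues of `x₀`. -/
theorem fibre_sum {G : Type u} [Group G] {C N : Subgroup G} {x0 : G} (h : Ctx C N x0 p)
    [Fintype G] [Fintype ↥C] [Fintype ↥N] {θ : G → ℂ} {S : Finset ℂ} {a : (↥C →* ℂˣ) → ℤ}
    (ha : ∀ μ, co C θ μ = (a μ : ℂ)) (hS : ∀ z ∈ S, z ^ p = 1)
    (hθ : ∀ i : ℕ, θ (x0 ^ i) = ∑ z ∈ S, z ^ i) {ζ : ℂ} (hζ : ζ ^ p = 1) :
    ∑ μ ∈ Finset.univ.filter (fun μ => ev μ h.y0 = ζ), a μ = if ζ ∈ S then 1 else 0 := by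
  have hp := h.prime.pos
  have hζ0 : ζ ≠ 0 := fun e => by rw [e, zero_pow hp.ne'] at hζ; exact zero_ne_one hζ
  have h1 : ∀ i : ℕ, θ (x0 ^ i) = ∑ μ : ↥C →* ℂˣ, (a μ : ℂ) * ev μ h.y0 ^ i := fun i => by
    have e := eq_sum_co h.comm θ (h.y0 ^ i)
    rw [SubgroupClass.coe_pow] at e
    refine e.trans (Finset.sum_congr rfl fun μ _ => ?_)
    rw [ha]; congr 1
    simp [ev]
  have hval : ∀ w : ℂ, w ^ p = 1 →
      ∑ i ∈ Finset.range p, w ^ i * ζ⁻¹ ^ i = if w = ζ then (p : ℂ) else 0 := fun w hw => by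
    simp only [← mul_pow]
    rw [sum_range_pow hp (by rw [mul_pow, hw, inv_pow, hζ, inv_one, one_mul])]
    exact if_congr (mul_inv_eq_one₀ hζ0) rfl rfl
  have h2 : ∑ i ∈ Finset.range p, θ (x0 ^ i) * ζ⁻¹ ^ i =
      (p : ℂ) * ((∑ μ ∈ Finset.univ.filter (fun μ => ev μ h.y0 = ζ), a μ : ℤ) : ℂ) := by
    simp only [h1, Finset.sum_mul, mul_assoc]
    rw [Finset.sum_comm]
    simp only [← Finset.mul_sum]
    push_cast
    rw [Finset.mul_sum, Finset.sum_filter]
    refine Finset.sum_congr rfl fun μ _ => ?_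
    have hμp : ev μ h.y0 ^ p = 1 := by
      show ((μ h.y0 : ℂˣ) : ℂ) ^ p = 1
      rw [← Units.val_pow_eq_pow_val, ← map_pow, h.y0_pow, map_one, Units.val_one]
    rw [hval _ hμp]
    split_ifs <;> simp [mul_comm]
  have h3 : ∑ i ∈ Finset.range p, θ (x0 ^ i) * ζ⁻¹ ^ i =
      (p : ℂ) * ((if ζ ∈ S then 1 else 0 : ℤ) : ℂ) := by
    simp only [hθ, Finset.sum_mul]
    rw [Finset.sum_comm, Finset.sum_congr rfl (fun z hz => hval z (hS z hz)), Finset.sum_ite_eq']
    split_ifs <;> simp
  exact_mod_cast mul_left_cancel₀ (Nat.cast_ne_zero.2 hp.ne') (h2.symm.trans h3)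

/-- **Normality.** -/
theorem conj_mem_zpowers [Fact p.Prime] (hn : 0 < n) (hord : orderOf (2 : ZMod p) = n) :
    ∀ (G : Type u) [Group G] [Finite G], Odd (Nat.card G) →
      ∀ ρ : G →* Matrix (Fin n) (Fin n) (ZMod 2), Function.Injective ρ →
        ∀ x : G, orderOf x = p → ∀ g : G, g⁻¹ * x * g ∈ Subgroup.zpowers x := by
  intro G
  induction hc : Nat.card G using Nat.strong_induction_on generalizing G with
  | _ c IH =>
    intro _ _ hodd ρ hρ x0 hx0 g0
    subst hc
    haveI := Fintype.ofFinite G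
    have hp := (Fact.out : p.Prime)
    set C := Subgroup.centralizer ({x0} : Set G) with hC
    obtain ⟨hcyc, -⟩ := centralizer_cyclic hn hord ρ hρ hx0
    have hcomm : ∀ a b : ↥C, a * b = b * a := fun a b => by
      letI := hcyc.commGroup
      exact mul_comm a b
    have hx0C : x0 ∈ C := Subgroup.mem_centralizer_singleton_iff.2 rfl
    -- an element of order `p` normalising `⟨x₀⟩` generates it
    have huniq : ∀ y : G, orderOf y = p → y⁻¹ * x0 * y ∈ Subgroup.zpowers x0 →
        y ∈ Subgroup.zpowers x0 := by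
      intro y hy hyx
      obtain ⟨k, hk⟩ : ∃ k : ℕ, x0 ^ k = y⁻¹ * x0 * y := by
        have := (Submonoid.mem_powers_iff _ _).1 (mem_powers_iff_mem_zpowers.2 hyx)
        exact this
      have hiter : ∀ m : ℕ, (y ^ m)⁻¹ * x0 * y ^ m = x0 ^ (k ^ m) := fun m => by
        induction m with
        | zero => simp
        | succ m ih =>
          rw [pow_succ, show (y ^ m * y)⁻¹ * x0 * (y ^ m * y) = y⁻¹ * ((y ^ m)⁻¹ * x0 * y ^ m) * y by
            group, ih]
          have e : y⁻¹ * x0 ^ (k ^ m) * y = (y⁻¹ * x0 * y) ^ (k ^ m) := by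
            simpa using (conj_pow (i := k ^ m) (a := y⁻¹) (b := x0)).symm
          rw [e, ← hk, ← pow_mul, pow_succ, mul_comm]
      have hyC : y ∈ C := by
        have e := hiter p
        rw [show y ^ p = 1 by rw [← hy, pow_orderOf_eq_one], inv_one, one_mul, mul_one] at e
        have e1 : x0 ^ (k ^ p) = x0 ^ k := by
          rw [pow_eq_pow_iff_modEq, hx0, ← ZMod.natCast_eq_natCast_iff, Nat.cast_pow, ZMod.pow_card]
        rw [hC, Subgroup.mem_centralizer_singleton_iff]
        have e2 : y⁻¹ * x0 * y = x0 := hk ▸ (e1 ▸ e).symm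
        nth_rw 1 [← e2]
        group
      have hmem : (⟨y, hyC⟩ : ↥C) ∈ Subgroup.zpowers (⟨x0, hx0C⟩ : ↥C) := by
        set T := Finset.univ.filter (fun z : ↥C => z ^ p = 1)
        have hT : T.card ≤ p := IsCyclic.card_pow_eq_one_le hp.pos
        set Z := Finset.univ.filter (fun z : ↥C => z ∈ Subgroup.zpowers (⟨x0, hx0C⟩ : ↥C))
        have hZT : Z ⊆ T := fun z hz => by
          obtain ⟨j, rfl⟩ := (Finset.mem_filter.1 hz).2
          refine Finset.mem_filter.2 ⟨Finset.mem_univ _, Subtype.ext ?_⟩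
          show (x0 ^ j) ^ p = 1
          rw [← zpow_natCast, zpow_comm, zpow_natCast, ← hx0, pow_orderOf_eq_one, one_zpow]
        have hZc : Z.card = p := by
          rw [← Fintype.card_subtype, ← Nat.card_eq_fintype_card, Nat.card_zpowers,
            ← Subgroup.orderOf_coe, hx0]
        have hyT : (⟨y, hyC⟩ : ↥C) ∈ T := Finset.mem_filter.2 ⟨Finset.mem_univ _,
          Subtype.ext (by show y ^ p = 1; rw [← hy, pow_orderOf_eq_one])⟩
        rw [← Finset.eq_of_subset_of_card_le hZT (by rw [hZc]; exact hT)] at hyT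
        exact (Finset.mem_filter.1 hyT).2
      obtain ⟨j, hj⟩ := Subgroup.mem_zpowers_iff.1 hmem
      exact ⟨j, congrArg Subtype.val hj⟩
    have hsub : ∀ H : Subgroup G, H ≠ ⊤ → x0 ∈ H → ∀ y ∈ H, orderOf y = p →
        y ∈ Subgroup.zpowers x0 := by
      intro H hH hxH y hyH hy
      refine huniq y hy ?_
      have hlt : Nat.card ↥H < Nat.card G := lt_of_le_of_ne
        (Nat.le_of_dvd Nat.card_pos (Subgroup.card_subgroup_dvd_card H))
        fun e => hH (Subgroup.eq_top_of_card_eq H e)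
      obtain ⟨j, hj⟩ := IH _ hlt ↥H rfl (hodd.of_dvd_nat (Subgroup.card_subgroup_dvd_card H))
        (ρ.comp H.subtype) (hρ.comp Subtype.val_injective) ⟨x0, hxH⟩
        (by rw [← Subgroup.orderOf_coe]; exact hx0) ⟨y, hyH⟩
      exact ⟨j, congrArg Subtype.val hj⟩
    by_cases hgen : ∀ M : Subgroup G, M.Normal → x0 ∈ M → M = ⊤
    swap
    · push Not at hgen
      obtain ⟨M, hMn, hxM, hM⟩ := hgen
      refine hsub M hM hxM _ ?_ ?_
      · simpa using hMn.conj_mem x0 hxM g0⁻¹
      · rw [show g0⁻¹ * x0 * g0 = g0⁻¹ * x0 * g0⁻¹⁻¹ by rw [inv_inv], ← MulAut.conj_apply,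
          MulEquiv.orderOf_eq, hx0]
    by_cases hz : x0 ∈ Subgroup.center G
    · rw [mul_assoc, ← Subgroup.mem_center_iff.1 hz g0, inv_mul_cancel_left]
      exact Subgroup.mem_zpowers x0
    -- the normaliser
    set N := Subgroup.normalizer (Subgroup.zpowers x0 : Subgroup G).carrier with hN
    have hmemN : ∀ g, g ∈ N → g⁻¹ * x0 * g ∈ Subgroup.zpowers x0 := fun g hg => by
      have := (Subgroup.mem_normalizer_iff.1 (inv_mem hg) x0).1 (Subgroup.mem_zpowers x0)
      simpa using this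
    have hNmem : ∀ g, g * x0 * g⁻¹ ∈ Subgroup.zpowers x0 → g ∈ N := fun g hg => by
      have hle : Subgroup.zpowers (g * x0 * g⁻¹) = Subgroup.zpowers x0 :=
        Subgroup.eq_of_le_of_card_ge (Subgroup.zpowers_le.2 hg) (by
          rw [Nat.card_zpowers, Nat.card_zpowers, ← MulAut.conj_apply,
            MulEquiv.orderOf_eq])
      refine Subgroup.mem_normalizer_iff.2 fun y => ?_
      constructor
      · rintro ⟨j, rfl⟩
        refine hle ▸ ⟨j, ?_⟩
        simp [conj_zpow]
      · intro hy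
        obtain ⟨j, hj⟩ := (hle.symm ▸ hy : g * y * g⁻¹ ∈ Subgroup.zpowers (g * x0 * g⁻¹))
        simp only [conj_zpow, mul_left_inj, mul_right_inj] at hj
        exact ⟨j, hj⟩
    have hCN : C ≤ N := fun c hc => hNmem c (by
      rw [(Subgroup.mem_centralizer_singleton_iff.1 hc), mul_inv_cancel_right]
      exact Subgroup.mem_zpowers x0)
    have hfixN : ∀ m ∈ N, m * x0 = x0 * m → m ∈ C := fun m _ hm =>
      Subgroup.mem_centralizer_singleton_iff.2 hm
    have hctx : Ctx C N x0 p := by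
      refine ⟨hodd, hcomm, hCN, fun m hm y hy => ?_, fun z hz => ?_, hx0C, hp, hx0, ?_, hfixN,
        hmemN⟩
      · obtain ⟨j, hj⟩ := Subgroup.mem_zpowers_iff.1 (hmemN m⁻¹ (inv_mem hm))
        rw [hC, Subgroup.mem_centralizer_singleton_iff]
        have hyx : Commute y (x0 ^ j) :=
          Commute.zpow_right (Subgroup.mem_centralizer_singleton_iff.1 hy) j
        have e : x0 ^ j = m * x0 * m⁻¹ := by rw [hj, inv_inv]
        rw [e] at hyx
        calc m⁻¹ * y * m * x0 = m⁻¹ * (y * (m * x0 * m⁻¹)) * m := by group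
          _ = m⁻¹ * (m * x0 * m⁻¹ * y) * m := by rw [hyx.eq]
          _ = x0 * (m⁻¹ * y * m) := by group
      · exact Subgroup.mem_centralizer_singleton_iff.2 (Subgroup.mem_center_iff.1 hz x0).symm
      · intro g y hy hyz hgy
        apply hNmem
        set H := Subgroup.centralizer ({y} : Set G) with hH
        have hHne : H ≠ ⊤ := fun e => hyz (Subgroup.mem_center_iff.2 fun w =>
          Subgroup.mem_centralizer_singleton_iff.1 (show w ∈ H from e ▸ Subgroup.mem_top w))
        refine hsub H hHne ?_ _ ?_ ?_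
        · exact Subgroup.mem_centralizer_singleton_iff.2
            (Subgroup.mem_centralizer_singleton_iff.1 hy).symm
        · rw [hH, Subgroup.mem_centralizer_singleton_iff]
          have e := Subgroup.mem_centralizer_singleton_iff.1 hgy
          calc g * x0 * g⁻¹ * y = g * (x0 * (g⁻¹ * y * g)) * g⁻¹ := by group
            _ = g * ((g⁻¹ * y * g) * x0) * g⁻¹ := by rw [e]
            _ = y * (g * x0 * g⁻¹) := by group
        · rw [← MulAut.conj_apply,
            MulEquiv.orderOf_eq, hx0]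
    have hab : ∀ a ∈ N, ∀ b ∈ N, (b * a)⁻¹ * x0 * (b * a) = (a * b)⁻¹ * x0 * (a * b) := by
      intro a ha b hb
      obtain ⟨i, hi⟩ := Subgroup.mem_zpowers_iff.1 (hmemN a ha)
      obtain ⟨j, hj⟩ := Subgroup.mem_zpowers_iff.1 (hmemN b hb)
      have e1 : (a * b)⁻¹ * x0 * (a * b) = x0 ^ (j * i) := by
        rw [show (a * b)⁻¹ * x0 * (a * b) = b⁻¹ * (a⁻¹ * x0 * a) * b by group, ← hi]
        have : b⁻¹ * x0 ^ i * b = (b⁻¹ * x0 * b) ^ i := by
          simpa using (conj_zpow (i := i) (a := b⁻¹) (b := x0)).symm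
        rw [this, ← hj, ← zpow_mul]
      have e2 : (b * a)⁻¹ * x0 * (b * a) = x0 ^ (i * j) := by
        rw [show (b * a)⁻¹ * x0 * (b * a) = a⁻¹ * (b⁻¹ * x0 * b) * a by group, ← hj]
        have : a⁻¹ * x0 ^ j * a = (a⁻¹ * x0 * a) ^ j := by
          simpa using (conj_zpow (i := j) (a := a⁻¹) (b := x0)).symm
        rw [this, ← hi, ← zpow_mul]
      rw [e1, e2, mul_comm]
    have hnb : ∀ a ∈ N, ∀ b ∈ N, a⁻¹ * b⁻¹ * a * b ∈ C := by
      intro a ha b hb
      refine hfixN _ (mul_mem (mul_mem (mul_mem (inv_mem ha) (inv_mem hb)) ha) hb) ?_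
      have e := hab a⁻¹ (inv_mem ha) b⁻¹ (inv_mem hb)
      simp only [mul_inv_rev, inv_inv] at e
      calc a⁻¹ * b⁻¹ * a * b * x0 = a⁻¹ * b⁻¹ * (a * b * x0 * (b⁻¹ * a⁻¹)) * (a * b) := by group
        _ = a⁻¹ * b⁻¹ * (b * a * x0 * (a⁻¹ * b⁻¹)) * (a * b) := by rw [e]
        _ = x0 * (a⁻¹ * b⁻¹ * a * b) := by group
    -- the character
    have hxp : x0 ^ p = 1 := by rw [← hx0, pow_orderOf_eq_one]
    have hM1 : ρ x0 ≠ 1 := fun e => hp.ne_one (by
      rw [← hx0, orderOf_eq_one_iff.2 (hρ (e.trans (map_one ρ).symm))])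
    obtain ⟨θ, S, hθ, hθ1, hθf, hS, hθS⟩ := exists_character hodd hn hord ρ hρ hxp
      (det_sub_one_ne_zero hn hord _ (by rw [← map_pow, hxp, map_one]) hM1)
    obtain ⟨k, hk, -⟩ := Char.IsCharacter.exists_decomp hθ
    have hfib : ∀ ω, 0 < k ω → ∀ ζ : ℂ, ζ ^ p = 1 →
        ∑ μ ∈ Finset.univ.filter (fun μ : ↥C →* ℂˣ => ev μ hctx.y0 = ζ), cn C ω μ ≤
          if ζ ∈ S then 1 else 0 := by
      intro ω hω ζ hζ
      have e := fibre_sum hctx (a := fun μ => ∑ η, (k η : ℤ) * cn C η μ)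
        (fun μ => co_decomp θ k hk μ) (fun z hz => (hS z hz).1) hθS hζ
      rw [← e]
      refine Finset.sum_le_sum fun μ _ => ?_
      have h1 : cn C ω μ ≤ (k ω : ℤ) * cn C ω μ :=
        le_mul_of_one_le_left (cn_nonneg ω μ) (by exact_mod_cast hω)
      exact h1.trans (Finset.single_le_sum (f := fun η => (k η : ℤ) * cn C η μ)
        (fun η _ => mul_nonneg (Int.natCast_nonneg _) (cn_nonneg η μ)) (Finset.mem_univ ω))
    have hevp : ∀ μ : ↥C →* ℂˣ, ev μ hctx.y0 ^ p = 1 := fun μ => by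
      show ((μ hctx.y0 : ℂˣ) : ℂ) ^ p = 1
      rw [← Units.val_pow_eq_pow_val, ← map_pow, hctx.y0_pow, map_one, Units.val_one]
    have hle1 : ∀ ω, 0 < k ω → ∀ μ, cn C ω μ ≤
        if ev μ hctx.y0 ∈ S then 1 else 0 := fun ω hω μ => by
      refine le_trans ?_ (hfib ω hω _ (hevp μ))
      exact Finset.single_le_sum (f := fun ν => cn C ω ν) (fun ν _ => cn_nonneg ω ν)
        (Finset.mem_filter.2 ⟨Finset.mem_univ _, rfl⟩)
    have h01 : ∀ ω, 0 < k ω → ∀ μ, cn C ω μ = 0 ∨ cn C ω μ = 1 := fun ω hω μ => by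
      have h1 := hle1 ω hω μ
      have h2 := cn_nonneg (C := C) ω μ
      split_ifs at h1 <;> omega
    have hy : ∀ ω, 0 < k ω → ∀ μ, cn C ω μ ≠ 0 → μ hctx.y0 ≠ 1 := fun ω hω μ hμ e => by
      have h1 := hle1 ω hω μ
      have h2 := cn_nonneg (C := C) ω μ
      split_ifs at h1 with hmem
      · exact (hS _ hmem).2 (show ((μ hctx.y0 : ℂˣ) : ℂ) = 1 by rw [e, Units.val_one])
      · omega
    have hsum : ∑ ω, k ω * Char.degree ω = n := by
      have e := congrFun hk 1
      rw [hθ1, Finset.sum_apply] at e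
      simp only [Pi.smul_apply, smul_eq_mul, Char.apply_one_eq_degree] at e
      exact_mod_cast e.symm
    have hle : ∀ ω, 0 < k ω → k ω * Char.degree ω ≤ n := fun ω _ => hsum ▸
      Finset.single_le_sum (f := fun η => k η * Char.degree η) (fun η _ => Nat.zero_le _)
        (Finset.mem_univ ω)
    obtain ⟨m, hm⟩ := dvd_pred hn hord
    have hp2 := p_ne_two hn hord
    have hpodd : Odd p := hp.odd_of_ne_two hp2
    have hm0 : 0 < m := by
      rcases Nat.eq_zero_or_pos m with rfl | h0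
      · have := hp.one_lt; omega
      · exact h0
    have hnp : n + 1 ≤ p := by
      have h1 : n * 1 ≤ n * m := Nat.mul_le_mul_left n hm0
      have := hp.one_lt; omega
    -- a small constituent
    obtain ⟨χ, hχk, hχd⟩ : ∃ χ, 0 < k χ ∧ 2 * Char.degree χ + 1 ≤ p := by
      obtain ⟨ω, hω⟩ : ∃ ω, 0 < k ω := by
        by_contra hcon
        push Not at hcon
        rw [Finset.sum_eq_zero (fun ω _ => by rw [Nat.le_zero.1 (hcon ω), zero_mul])] at hsum
        omega
      have hωn := le_trans (Nat.le_mul_of_pos_left _ hω) (hle ω hω)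
      rcases Nat.even_or_odd n with he | ho
      · by_cases h2 : 2 * Char.degree ω + 1 ≤ p
        · exact ⟨ω, hω, h2⟩
        have hlt : k ω * Char.degree ω < n := by
          refine lt_of_le_of_ne (hle ω hω) fun e => ?_
          rcases Nat.lt_or_ge (k ω) 2 with h | h
          · rw [show k ω = 1 by omega, one_mul] at e
            exact Nat.not_odd_iff_even.2 he (e ▸ hctx.odd_degree ω)
          · have := Nat.mul_le_mul_right (Char.degree ω) h
            omega
        obtain ⟨η, hη, hηω⟩ : ∃ η, 0 < k η ∧ η ≠ ω := by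
          by_contra hcon
          push Not at hcon
          rw [Finset.sum_eq_single ω (fun η _ hne => by
            rw [Nat.eq_zero_of_not_pos (fun h => hne (hcon η h)), zero_mul]) (by simp)] at hsum
          omega
        refine ⟨η, hη, ?_⟩
        have h3 : k ω * Char.degree ω + k η * Char.degree η ≤ n := by
          rw [← hsum, ← Finset.sum_pair (f := fun i => k i * Char.degree i) (Ne.symm hηω)]
          exact Finset.sum_le_sum_of_subset (Finset.subset_univ _)
        have h4 := Nat.le_mul_of_pos_left (Char.degree ω) hω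
        have h5 := Nat.le_mul_of_pos_left (Char.degree η) hη
        omega
      · refine ⟨ω, hω, ?_⟩
        obtain ⟨a, ha⟩ := hpodd
        obtain ⟨b, hb⟩ := ho
        rcases (by omega : m = 1 ∨ 2 ≤ m) with rfl | h2
        · omega
        · have h1 : n * 2 ≤ n * m := Nat.mul_le_mul_left n h2
          omega
    obtain ⟨hdeg, μ0, hμ0, hχ⟩ := hctx.degree_orbit hz χ (h01 χ hχk) (hy χ hχk) (Or.inl hχd)
    have hNC : Nat.card ↥N = Nat.card ↥C := by
      by_contra hne
      refine hctx.false_of_orbit hgen hnb χ hμ0 hχ ?_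
      have hco := hctx.card_orb hμ0
      rcases Nat.lt_or_ge (hctx.orb μ0).card 2 with h | h
      · exfalso
        have hpos := Finset.card_pos.2 ⟨μ0, hctx.mem_orb_self μ0⟩
        rw [show (hctx.orb μ0).card = 1 by omega, one_mul] at hco
        exact hne hco.symm
      · exact h
    have hlin : ∀ ω, 0 < k ω → Char.degree ω = 1 := fun ω hω => by
      have hωn := le_trans (Nat.le_mul_of_pos_left _ hω) (hle ω hω)
      obtain ⟨e, -⟩ := hctx.degree_orbit hz ω (h01 ω hω) (hy ω hω) (Or.inr ⟨hNC, by omega⟩)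
      rw [hNC] at e
      exact Nat.eq_of_mul_eq_mul_right Nat.card_pos (e.trans (one_mul _).symm)
    exfalso
    apply hz
    rw [Subgroup.mem_center_iff]
    intro g
    have hker : θ (g * x0 * g⁻¹ * x0⁻¹) = θ 1 := by
      rw [hk, Finset.sum_apply, Finset.sum_apply]
      refine Finset.sum_congr rfl fun ω _ => ?_
      simp only [Pi.smul_apply, smul_eq_mul]
      rcases Nat.eq_zero_or_pos (k ω) with h0 | h0
      · rw [h0, Nat.cast_zero, zero_mul, zero_mul]
      · congr 1
        obtain ⟨lam, hl⟩ := Char.IsCharacter.exists_monoidHom (Char.irr_isCharacter ω)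
          (by rw [Char.apply_one_eq_degree, hlin ω h0, Nat.cast_one])
        rw [← hl]
        simp only [map_mul, map_one]
        have h1 : lam g * lam g⁻¹ = 1 := by rw [← map_mul, mul_inv_cancel, map_one]
        have h2 : lam x0 * lam x0⁻¹ = 1 := by rw [← map_mul, mul_inv_cancel, map_one]
        calc lam g * lam x0 * lam g⁻¹ * lam x0⁻¹ = (lam g * lam g⁻¹) * (lam x0 * lam x0⁻¹) := by ring
          _ = 1 := by rw [h1, h2, mul_one]
    have := hθf _ hker
    have e : g * x0 * g⁻¹ = x0 := mul_inv_eq_one.1 this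
    calc g * x0 = g * x0 * g⁻¹ * g := by group
      _ = x0 * g := by rw [e]

end Cfsg.Agent.OddLinear
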