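import Cfsg.Agent.Lib.OddLinear.Coeff
import Cfsg.Agent.Lib.CharInt.TI
import Cfsg.Agent.Lib.Char.Induction

/-!
# An abelian trivial-intersection subgroup modulo the centre

`Ctx` collects: `C ≤ N` with `C` abelian and normal in `N`, `Z(G) ≤ C`, the non-central points of
`C` form a trivial-intersection set with respect to `N`, and an element `x₀` of prime order whose
normaliser data makes the characters of `C` non-trivial at `x₀` have regular orbits.
-/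

set_option autoImplicit false
set_option linter.style.haveILetI false
set_option linter.unusedSectionVars false

namespace Cfsg.Agent.OddLinear

open Finset
open scoped ComplexConjugate Classical

universe u

/-- The hypotheses. -/
structure Ctx {G : Type u} [Group G] (C N : Subgroup G) (x0 : G) (p : ℕ) : Prop where
  odd_card : Odd (Nat.card G)
  comm : ∀ a b : ↥C, a * b = b * a
  le : C ≤ N
  conj_mem : ∀ n ∈ N, ∀ x ∈ C, n⁻¹ * x * n ∈ C
  center_le : Subgroup.center G ≤ C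
  mem : x0 ∈ C
  prime : p.Prime
  order : orderOf x0 = p
  ti : ∀ g : G, ∀ x ∈ C, x ∉ Subgroup.center G → g⁻¹ * x * g ∈ C → g ∈ N
  fix_mem : ∀ n ∈ N, n * x0 = x0 * n → n ∈ C
  pow_mem : ∀ n ∈ N, n⁻¹ * x0 * n ∈ Subgroup.zpowers x0

variable {G : Type u} [Group G] {C N : Subgroup G} {x0 : G} {p : ℕ}

/-- `x₀` as an element of `C`. -/
def Ctx.y0 (h : Ctx C N x0 p) : ↥C := ⟨x0, h.mem⟩

theorem Ctx.y0_pow (h : Ctx C N x0 p) : h.y0 ^ p = 1 :=
  Subtype.ext (show x0 ^ p = 1 by rw [← h.order, pow_orderOf_eq_one])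

/-- Conjugation of a point of `C` by a point of `N`. -/
def Ctx.cj (h : Ctx C N x0 p) (n : ↥N) : ↥C →* ↥C where
  toFun x := ⟨(n : G)⁻¹ * x * n, h.conj_mem n n.2 x x.2⟩
  map_one' := Subtype.ext (by simp)
  map_mul' a b := Subtype.ext (by simp [mul_assoc])

theorem Ctx.cj_coe (h : Ctx C N x0 p) (n : ↥N) (x : ↥C) : (h.cj n x : G) = (n : G)⁻¹ * x * n := rfl

variable [Fintype G] [Fintype ↥C] [Fintype ↥N]

/-- The orbit of a linear character. -/
noncomputable def Ctx.orb (h : Ctx C N x0 p) (μ : ↥C →* ℂˣ) : Finset (↥C →* ℂˣ) :=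
  Finset.univ.image fun n : ↥N => μ.comp (h.cj n)

theorem Ctx.mem_orb_self (h : Ctx C N x0 p) (μ : ↥C →* ℂˣ) : μ ∈ h.orb μ :=
  Finset.mem_image.2 ⟨1, Finset.mem_univ _, MonoidHom.ext fun x => congrArg μ (Subtype.ext
    (by rw [h.cj_coe]; simp))⟩

theorem Ctx.orb_eq (h : Ctx C N x0 p) {μ ν : ↥C →* ℂˣ} (hν : ν ∈ h.orb μ) : h.orb ν = h.orb μ := by
  obtain ⟨m, -, rfl⟩ := Finset.mem_image.1 hν
  ext ρ
  simp only [Ctx.orb, Finset.mem_image, Finset.mem_univ, true_and]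
  constructor
  · rintro ⟨n, rfl⟩
    exact ⟨n * m, MonoidHom.ext fun x => congrArg μ (Subtype.ext (by
      simp [h.cj_coe, mul_assoc, mul_inv_rev]))⟩
  · rintro ⟨n, rfl⟩
    exact ⟨n * m⁻¹, MonoidHom.ext fun x => congrArg μ (Subtype.ext (by
      simp [h.cj_coe, mul_assoc, mul_inv_rev]))⟩

theorem Ctx.orb_disjoint (h : Ctx C N x0 p) {μ ν : ↥C →* ℂˣ} (hne : h.orb μ ≠ h.orb ν)
    {ρ : ↥C →* ℂˣ} (hρ : ρ ∈ h.orb μ) : ρ ∉ h.orb ν := fun h' =>
  hne ((h.orb_eq hρ).symm.trans (h.orb_eq h'))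

/-- The values at `x₀` along an orbit are powers of the first one. -/
theorem Ctx.orb_y0 (h : Ctx C N x0 p) {μ ν : ↥C →* ℂˣ} (hν : ν ∈ h.orb μ) :
    ν h.y0 ∈ Subgroup.zpowers (μ h.y0) := by
  obtain ⟨n, -, rfl⟩ := Finset.mem_image.1 hν
  obtain ⟨k, hk⟩ := h.pow_mem n n.2
  refine ⟨k, ?_⟩
  show μ h.y0 ^ k = μ (h.cj n h.y0)
  rw [← map_zpow]
  congr 1
  exact Subtype.ext (by rw [h.cj_coe, SubgroupClass.coe_zpow]; exact hk)

theorem Ctx.y0_root (h : Ctx C N x0 p) {μ : ↥C →* ℂˣ} (hμ : μ h.y0 ≠ 1) :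
    orderOf (μ h.y0) = p := by
  haveI := Fact.mk h.prime
  exact orderOf_eq_prime (by rw [← map_pow, h.y0_pow, map_one]) hμ

theorem Ctx.orb_y0_ne (h : Ctx C N x0 p) {μ ν : ↥C →* ℂˣ} (hμ : μ h.y0 ≠ 1)
    (hν : ν ∈ h.orb μ) : ν h.y0 ≠ 1 := by
  obtain ⟨n, -, rfl⟩ := Finset.mem_image.1 hν
  intro e
  apply hμ
  have hmem : x0 ∈ Subgroup.zpowers ((h.cj n h.y0 : ↥C) : G) := by
    obtain ⟨k, hk⟩ := h.pow_mem n n.2
    have hne : (h.cj n h.y0 : G) ≠ 1 := fun e1 => by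
      apply hμ
      have : x0 = 1 := by
        have e2 : (n : G)⁻¹ * x0 * n = 1 := e1
        simpa [mul_assoc] using congrArg (fun z => (n : G) * z * (n : G)⁻¹) e2
      exact absurd (h.order.symm.trans (by rw [this, orderOf_one])) h.prime.ne_one
    haveI := Fact.mk h.prime
    have ho : orderOf (h.cj n h.y0 : G) = p := orderOf_eq_prime
      (by rw [← SubgroupClass.coe_pow, ← map_pow, h.y0_pow, map_one, Subgroup.coe_one]) hne
    have hle : Subgroup.zpowers (h.cj n h.y0 : G) ≤ Subgroup.zpowers x0 :=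
      Subgroup.zpowers_le.2 ⟨k, hk⟩
    rw [Subgroup.eq_of_le_of_card_ge hle (by rw [Nat.card_zpowers, Nat.card_zpowers, ho, h.order])]
    exact Subgroup.mem_zpowers x0
  obtain ⟨k, hk⟩ := hmem
  have hy : h.y0 = h.cj n h.y0 ^ k := Subtype.ext (by rw [SubgroupClass.coe_zpow]; exact hk.symm)
  rw [hy, map_zpow]
  have e' : μ (h.cj n h.y0) = 1 := e
  rw [e', one_zpow]

/-- An odd order group never inverts `x₀`. -/
theorem Ctx.orb_y0_ne_inv (h : Ctx C N x0 p) {μ ν : ↥C →* ℂˣ} (hμ : μ h.y0 ≠ 1)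
    (hν : ν ∈ h.orb μ) : ν h.y0 ≠ (μ h.y0)⁻¹ := by
  obtain ⟨n, -, rfl⟩ := Finset.mem_image.1 hν
  intro e
  obtain ⟨k, hk⟩ := h.pow_mem n n.2
  have hy : h.cj n h.y0 = h.y0 ^ k := Subtype.ext (by rw [SubgroupClass.coe_zpow]; exact hk.symm)
  have e' : μ h.y0 ^ k = (μ h.y0)⁻¹ := by rw [← map_zpow, ← hy]; exact e
  rw [← zpow_neg_one, zpow_eq_zpow_iff_modEq, h.y0_root hμ, ← h.order,
    ← zpow_eq_zpow_iff_modEq, zpow_neg_one] at e'
  have hinv : (n : G)⁻¹ * x0 * n = x0⁻¹ := (show x0 ^ k = (n : G)⁻¹ * x0 * n from hk).symm.trans e'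
  have h2 : Commute (((n : G)) ^ 2) x0 := by
    have e1 : x0 * (n : G) = n * x0⁻¹ := by rw [← hinv]; group
    have e2 : x0⁻¹ * (n : G) = n * x0 := by
      have := congrArg (fun z => x0⁻¹ * z * x0) e1
      simpa [mul_assoc] using this.symm
    show (n : G) ^ 2 * x0 = x0 * (n : G) ^ 2
    rw [pow_two, ← mul_assoc x0, e1, mul_assoc (n : G) x0⁻¹, e2, mul_assoc]
  obtain ⟨j, hj⟩ : Odd (orderOf (n : G)) := h.odd_card.of_dvd_nat (orderOf_dvd_natCard _)
  have hn : (n : G) = ((n : G) ^ 2) ^ (j + 1) := by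
    rw [← pow_mul, show 2 * (j + 1) = (2 * j + 1) + 1 by ring, pow_succ, ← hj, pow_orderOf_eq_one,
      one_mul]
  have hc : Commute (n : G) x0 := by rw [hn]; exact h2.pow_left _
  have hfix : (n : G)⁻¹ * x0 * n = x0 := by rw [mul_assoc, ← hc.eq, inv_mul_cancel_left]
  have hsq : x0 ^ 2 = 1 := by rw [pow_two]; nth_rw 1 [← hfix.symm.trans hinv |>.symm]; rw [inv_mul_cancel]
  have hp2 : p = 2 := (Nat.prime_dvd_prime_iff_eq h.prime Nat.prime_two).1
    (h.order ▸ orderOf_dvd_of_pow_eq_one hsq)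
  exact Nat.not_even_iff_odd.2 (h.odd_card.of_dvd_nat (hp2 ▸ h.order ▸ orderOf_dvd_natCard x0))
    (by decide)

/-- An element of `N` fixing the value at `x₀` of a character non-trivial there lies in `C`. -/
theorem Ctx.mem_of_fix (h : Ctx C N x0 p) {μ : ↥C →* ℂˣ} (hμ : μ h.y0 ≠ 1) {w : ↥N}
    (hw : μ (h.cj w h.y0) = μ h.y0) : (w : G) ∈ C := by
  refine h.fix_mem _ w.2 ?_
  obtain ⟨k, hk⟩ := h.pow_mem w w.2
  have hy : h.cj w h.y0 = h.y0 ^ k := Subtype.ext (by rw [SubgroupClass.coe_zpow]; exact hk.symm)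
  have e' : μ h.y0 ^ k = μ h.y0 ^ (1 : ℤ) := by rw [zpow_one, ← map_zpow, ← hy]; exact hw
  rw [zpow_eq_zpow_iff_modEq, h.y0_root hμ, ← h.order, ← zpow_eq_zpow_iff_modEq, zpow_one] at e'
  have hfix : (w : G)⁻¹ * x0 * w = x0 := (show x0 ^ k = _ from hk).symm.trans e'
  nth_rw 1 [← hfix]
  group

/-- Points of `C` fix every character. -/
theorem Ctx.comp_cj_of_mem (h : Ctx C N x0 p) (μ : ↥C →* ℂˣ) {w : ↥N} (hw : (w : G) ∈ C) :
    μ.comp (h.cj w) = μ := MonoidHom.ext fun x => congrArg μ (Subtype.ext (by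
  rw [h.cj_coe, mul_assoc, show (x : G) * w = w * x from congrArg Subtype.val (h.comm x ⟨w, hw⟩),
    inv_mul_cancel_left]))

theorem Ctx.comp_cj (h : Ctx C N x0 p) (μ : ↥C →* ℂˣ) (n m : ↥N) :
    (μ.comp (h.cj n)).comp (h.cj m) = μ.comp (h.cj (m * n)) :=
  MonoidHom.ext fun x => congrArg μ (Subtype.ext (by simp [h.cj_coe, mul_assoc, mul_inv_rev]))

/-- The members of an orbit are told apart at `x₀`. -/
theorem Ctx.orb_y0_inj (h : Ctx C N x0 p) {μ ν ν' : ↥C →* ℂˣ} (hμ : μ h.y0 ≠ 1)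
    (hν : ν ∈ h.orb μ) (hν' : ν' ∈ h.orb μ) (e : ν h.y0 = ν' h.y0) : ν = ν' := by
  have hne := h.orb_y0_ne hμ hν
  rw [← h.orb_eq hν] at hν'
  obtain ⟨n, -, rfl⟩ := Finset.mem_image.1 hν'
  exact (h.comp_cj_of_mem ν (h.mem_of_fix hne e.symm)).symm

/-- The orbit of a character non-trivial at `x₀` is regular for `N / C`. -/
theorem Ctx.card_orb (h : Ctx C N x0 p) {μ : ↥C →* ℂˣ} (hμ : μ h.y0 ≠ 1) :
    (h.orb μ).card * Nat.card ↥C = Nat.card ↥N := by
  rw [Nat.card_eq_fintype_card (α := ↥N), ← Finset.card_univ,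
    Finset.card_eq_sum_card_image (fun n : ↥N => μ.comp (h.cj n)) Finset.univ]
  refine (Finset.sum_const_nat fun ν hν => ?_).symm
  obtain ⟨m, -, rfl⟩ := Finset.mem_image.1 hν
  rw [Nat.card_eq_fintype_card, ← Finset.card_univ]
  symm
  refine Finset.card_bij (fun (c : ↥C) _ => (m * ⟨c, h.le c.2⟩ : ↥N)) (fun c _ => ?_) ?_ ?_
  · refine Finset.mem_filter.2 ⟨Finset.mem_univ _, MonoidHom.ext fun x => congrArg μ (Subtype.ext ?_)⟩
    rw [h.cj_coe, h.cj_coe, Subgroup.coe_mul, mul_inv_rev]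
    show (c : G)⁻¹ * (m : G)⁻¹ * x * ((m : G) * c) = (m : G)⁻¹ * x * m
    have hc := congrArg Subtype.val (h.comm (h.cj m x) c)
    simp only [Subgroup.coe_mul, h.cj_coe] at hc
    calc (c : G)⁻¹ * (m : G)⁻¹ * x * ((m : G) * c) = (c : G)⁻¹ * ((m : G)⁻¹ * x * m * c) := by group
      _ = (m : G)⁻¹ * x * m := by rw [hc, inv_mul_cancel_left]
  · intro a _ b _ e
    exact Subtype.ext (congrArg Subtype.val (mul_left_cancel e) :)
  · intro n hn
    have hn' := (Finset.mem_filter.1 hn).2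
    refine ⟨⟨(m : G)⁻¹ * (n : G), ?_⟩, Finset.mem_univ _, Subtype.ext (by simp)⟩
    set w : ↥N := m⁻¹ * n with hw
    have hwc : μ.comp (h.cj w) = μ := MonoidHom.ext fun x => by
      have e := DFunLike.congr_fun hn' (h.cj m⁻¹ x)
      simp only [MonoidHom.comp_apply] at e
      rw [show h.cj n (h.cj m⁻¹ x) = h.cj w x from
        Subtype.ext (by simp [hw, h.cj_coe, mul_assoc]),
        show h.cj m (h.cj m⁻¹ x) = x from Subtype.ext (by simp [h.cj_coe, mul_assoc])] at e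
      exact e
    exact h.mem_of_fix (w := w) hμ (DFunLike.congr_fun hwc h.y0)

end Cfsg.Agent.OddLinear
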