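import Cfsg.Agent.Lib.OddLinear.Twist
import Cfsg.Agent.Lib.OddLinear.Family
import Cfsg.Agent.Lib.Char.KernelSum
import Mathlib.RingTheory.RootsOfUnity.PrimitiveRoots

/-!
# No character of orbit degree greater than one

If `x₀` normally generates `G` of odd order, no irreducible character restricts to `C` as a single
orbit of size at least two: the constituents of `χ χ̄` with a fixed point on `C` would have too large
a degree.
-/

set_option autoImplicit false
set_option linter.style.haveILetI false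
set_option linter.unusedSectionVars false

namespace Cfsg.Agent.OddLinear

open Finset
open scoped ComplexConjugate Classical

universe u

/-- A sum of an invariant function under a fixed-point-free involution is even. -/
theorem even_sum_of_involution {α : Type*} (s : Finset α) (g : α → α) (f : α → ℤ)
    (hg : ∀ a ∈ s, g a ∈ s) (hgg : ∀ a ∈ s, g (g a) = a) (hne : ∀ a ∈ s, g a ≠ a)
    (hf : ∀ a ∈ s, f (g a) = f a) : Even (∑ a ∈ s, f a) := by
  rw [even_iff_two_dvd]
  refine (ZMod.intCast_zmod_eq_zero_iff_dvd (∑ a ∈ s, f a) 2).1 ?_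
  push_cast
  refine Finset.sum_involution (fun a _ => g a) (fun a ha => ?_) (fun a ha _ => hne a ha) hg hgg
  rw [hf a ha]
  exact CharTwo.add_self_eq_zero _

variable {G : Type u} [Group G] {C N : Subgroup G} {x0 : G} {p : ℕ}
  [Fintype G] [Fintype ↥C] [Fintype ↥N]

/-- The product formula for integers. -/
theorem co_mul_irr (hC : ∀ a b : ↥C, a * b = b * a) (X Y : IrrCharacter G) (μ : ↥C →* ℂˣ) :
    co C (X.1 * Y.1) μ = ((∑ ν : ↥C →* ℂˣ, cn C X ν * cn C Y (μ * ν⁻¹) : ℤ) : ℂ) := by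
  rw [co_mul hC]
  push_cast
  simp only [cn_spec]

theorem co_decomp (θ : G → ℂ) (m : IrrCharacter G → ℕ) (hm : θ = ∑ ω, (m ω : ℂ) • ω.1)
    (μ : ↥C →* ℂˣ) : co C θ μ = ((∑ ω, (m ω : ℤ) * cn C ω μ : ℤ) : ℂ) := by
  rw [hm, co_sum]
  push_cast
  simp only [co_smul, cn_spec]

/-- **The main statement.** -/
theorem Ctx.false_of_orbit (h : Ctx C N x0 p)
    (hgen : ∀ M : Subgroup G, M.Normal → x0 ∈ M → M = ⊤)
    (hnb : ∀ a ∈ N, ∀ b ∈ N, a⁻¹ * b⁻¹ * a * b ∈ C) (χ : IrrCharacter G) {μ0 : ↥C →* ℂˣ}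
    (hμ : μ0 h.y0 ≠ 1) (hχ : ∀ ρ, cn C χ ρ = if ρ ∈ h.orb μ0 then 1 else 0)
    (he : 2 ≤ (h.orb μ0).card) : False := by
  set O := h.orb μ0 with hO
  set e := O.card with he'
  set J := Finset.univ.filter fun ρ : ↥C →* ℂˣ => h.InJ ρ with hJ
  have hmemJ : ∀ ρ, ρ ∈ J ↔ h.InJ ρ := fun ρ => by simp [hJ]
  have hdiff : ∀ ν ∈ O, ∀ ν' ∈ O, ν ≠ ν' → h.InJ (ν * ν'⁻¹) := fun ν hν ν' hν' hne => by
    refine ⟨fun e1 => hne (h.orb_y0_inj hμ hν hν' ?_), fun x hx => ?_⟩
    · rwa [MonoidHom.mul_apply, MonoidHom.inv_apply, mul_inv_eq_one] at e1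
    · rw [MonoidHom.mul_apply, MonoidHom.inv_apply, h.orb_center hν hx, h.orb_center hν' hx,
        mul_inv_cancel]
  have h01 : ∀ ρ, cn C χ ρ = 0 ∨ cn C χ ρ = 1 := fun ρ => by rw [hχ]; split_ifs <;> simp
  have hodd : Odd e := by
    have h1 := h.card_orb hμ
    have h2 : Odd (Nat.card ↥N) := h.odd_card.of_dvd_nat (Subgroup.card_subgroup_dvd_card N)
    rw [← h1, Nat.odd_mul] at h2
    exact h2.1
  have hdeg : (Char.degree χ : ℤ) = e := by
    rw [degree_eq_sum_cn h.comm χ]
    simp only [hχ, Finset.sum_boole, Finset.filter_univ_mem]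
    rfl
  -- the second character
  obtain ⟨ν1, hν1, hne1⟩ := Finset.exists_mem_ne (by omega : 1 < O.card) μ0
  set η := ν1 * μ0⁻¹ with hη
  have hηJ : h.InJ η := hdiff _ hν1 _ (h.mem_orb_self μ0) hne1
  haveI := Fact.mk h.prime
  obtain ⟨j, hj⟩ : ∃ j : ℕ, η h.y0 ^ j = ((μ0 h.y0)⁻¹) ^ 2 := by
    have hprim : IsPrimitiveRoot ((η h.y0 : ℂˣ) : ℂ) p := by
      rw [IsPrimitiveRoot.coe_units_iff]
      exact (h.y0_root hηJ.1).subst (motive := fun k => IsPrimitiveRoot _ k)
        (IsPrimitiveRoot.orderOf (η h.y0))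
    have hp1 : ((((μ0 h.y0)⁻¹) ^ 2 : ℂˣ) : ℂ) ^ p = 1 := by
      rw [← Units.val_pow_eq_pow_val, Units.val_eq_one, ← pow_mul, mul_comm, pow_mul, inv_pow,
        ← map_pow, h.y0_pow, map_one, inv_one, one_pow]
    obtain ⟨i, -, hi⟩ := hprim.eq_pow_of_pow_eq_one hp1
    exact ⟨i, Units.ext (by rw [Units.val_pow_eq_pow_val]; exact hi)⟩
  set μ' := μ0 * η ^ j with hμ'
  have hμ'y : μ' h.y0 = (μ0 h.y0)⁻¹ := by
    rw [hμ', MonoidHom.mul_apply, MonoidHom.pow_apply, hj, pow_two, mul_inv_cancel_left]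
  have hμ'ne : μ' h.y0 ≠ 1 := by rw [hμ'y]; exact fun e1 => hμ (inv_eq_one.1 e1)
  have hμ'z : ∀ x : ↥C, (x : G) ∈ Subgroup.center G → μ0 x = μ' x := fun x hx => by
    rw [hμ', MonoidHom.mul_apply, MonoidHom.pow_apply, hηJ.2 x hx, one_pow, mul_one]
  have hμ'O : μ' ∉ O := fun e1 => h.orb_y0_ne_inv hμ e1 hμ'y
  have hOO' : h.orb μ0 ≠ h.orb μ' := fun e1 => hμ'O (by rw [hO, e1]; exact h.mem_orb_self μ')
  have hdiff' : ∀ ν ∈ O, h.InJ (μ' * ν⁻¹) := fun ν hν => by
    refine ⟨fun e1 => ?_, fun x hx => ?_⟩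
    · rw [MonoidHom.mul_apply, MonoidHom.inv_apply, mul_inv_eq_one] at e1
      exact h.orb_y0_ne_inv hμ hν (e1.symm.trans hμ'y)
    · rw [MonoidHom.mul_apply, MonoidHom.inv_apply, ← hμ'z x hx, h.orb_center hν hx, mul_inv_cancel]
  obtain ⟨A, Y, hAY, hval, hC, hI⟩ := h.exists_pair hμ hμ'ne hμ'z hOO'
  have hAχ : A = χ := by
    have e1 := hval χ
    rw [hχ, hχ, if_pos (h.mem_orb_self μ0), if_neg hμ'O] at e1
    by_contra hne
    rw [if_neg (Ne.symm hne)] at e1
    split_ifs at e1 <;> omega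
  subst hAχ
  have hY : ∀ ρ, cn C Y ρ = if ρ ∈ h.orb μ' then 1 else 0 := fun ρ => by
    have := hC ρ; rw [hχ] at this; linarith
  -- the product with the conjugate
  set ψ : G → ℂ := fun g => A.1 g * conj (A.1 g) with hψ
  have hconjc : ∀ ρ, cn C (Char.conjIrr A) ρ = cn C A ρ⁻¹ := fun ρ =>
    cn_conjIrr_aux A (Char.conjIrr A) (fun g => rfl) ρ
  have hψeq : ψ = A.1 * (Char.conjIrr A).1 := rfl
  have hψchar : IsCharacter G ψ := by
    rw [hψeq]; exact Char.IsCharacter.mul (Char.irr_isCharacter _) (Char.irr_isCharacter _)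
  obtain ⟨m, hm, hm'⟩ := Char.IsCharacter.exists_decomp hψchar
  have hψco : ∀ ρ, ∑ ω, (m ω : ℤ) * cn C ω ρ =
      ((O.filter fun ν => ν * ρ⁻¹ ∈ O).card : ℤ) := fun ρ => by
    have e1 := co_decomp ψ m hm ρ
    rw [hψeq, co_mul_irr h.comm] at e1
    have e2 : ∑ ω, (m ω : ℤ) * cn C ω ρ = ∑ ν, cn C A ν * cn C (Char.conjIrr A) (ρ * ν⁻¹) := by
      exact_mod_cast e1.symm
    rw [e2, Finset.natCast_card_filter, ← Finset.sum_filter_add_sum_filter_not Finset.univ (· ∈ O),
      Finset.sum_eq_zero (s := Finset.univ.filter fun ν => ¬ ν ∈ O) (fun ν hν => by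
        rw [hχ, if_neg (Finset.mem_filter.1 hν).2, zero_mul]), add_zero, Finset.filter_univ_mem]
    refine Finset.sum_congr rfl fun ν hν => ?_
    rw [hconjc, hχ, hχ, if_pos hν, one_mul, hom_mul_inv_inv]
  have hψone : ∑ ω, (m ω : ℤ) * cn C ω 1 = e := by
    rw [hψco, Finset.filter_true_of_mem (fun ν hν => by rwa [hom_one_inv, show ν * (1 : ↥C →* ℂˣ) = ν from MonoidHom.ext fun x => by simp])]
  -- vanishing outside `{1} ∪ J`
  have hvanish : ∀ ω, m ω ≠ 0 → ∀ ρ, ρ ≠ 1 → ¬ h.InJ ρ → cn C ω ρ = 0 := by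
    intro ω hω ρ hρ1 hρJ
    have e0 : ∑ η, (m η : ℤ) * cn C η ρ = 0 := by
      rw [hψco, Finset.filter_false_of_mem (fun ν hν hν' => ?_), Finset.card_empty, Nat.cast_zero]
      have hne : ν ≠ ν * ρ⁻¹ := fun e1 => hρ1 (hom_eq_one_of_eq_mul_inv e1)
      have := hdiff ν hν _ hν' hne
      rw [hom_mul_left_cancel_inv] at this
      exact hρJ this
    have := (Finset.sum_eq_zero_iff_of_nonneg (fun η _ =>
      mul_nonneg (Int.natCast_nonneg _) (cn_nonneg η ρ))).1 e0 ω (Finset.mem_univ ω)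
    exact (mul_eq_zero.1 this).resolve_left (by exact_mod_cast hω)
  -- the key identity
  have hkey : ∀ ω : IrrCharacter G, 0 < cn C ω 1 → (m ω : ℤ) =
      ∑ ν ∈ O, cn C ω (μ0 * ν⁻¹) - ∑ ν ∈ O, cn C ω (μ' * ν⁻¹) := by
    intro ω hω
    have hcl : IsClassFunction G (A.1 * ω.1) := Char.IsCharacter.isClassFunction
      (Char.IsCharacter.mul (Char.irr_isCharacter A) (Char.irr_isCharacter ω))
    have e1 := hI _ hcl
    have e2 : classInner (A.1 * ω.1) A.1 = (m ω : ℂ) := by
      rw [← Complex.conj_natCast (m ω), ← hm' ω, Char.conj_classInner, classInner, classInner]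
      congr 1
      refine Finset.sum_congr rfl fun g _ => ?_
      simp only [hψ, Pi.mul_apply, map_mul, Complex.conj_conj]
      ring
    have e3 : classInner (A.1 * ω.1) Y.1 = 0 := by
      have hθ : IsCharacter G ((Char.conjIrr A).1 * Y.1) :=
        Char.IsCharacter.mul (Char.irr_isCharacter _) (Char.irr_isCharacter _)
      obtain ⟨k, hk, hk'⟩ := Char.IsCharacter.exists_decomp hθ
      have e4 : ∑ η, (k η : ℤ) * cn C η 1 = 0 := by
        have e5 := co_decomp _ k hk (1 : ↥C →* ℂˣ)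
        rw [co_mul_irr h.comm] at e5
        have e6 : ∑ η, (k η : ℤ) * cn C η 1 =
            ∑ ν, cn C (Char.conjIrr A) ν * cn C Y (1 * ν⁻¹) := by exact_mod_cast e5.symm
        rw [e6]
        refine Finset.sum_eq_zero fun ν _ => ?_
        rw [hconjc, hχ, hY, show (1 : ↥C →* ℂˣ) * ν⁻¹ = ν⁻¹ from MonoidHom.ext fun x => by simp]
        by_cases q : ν⁻¹ ∈ O
        · rw [if_neg (h.orb_disjoint hOO' q), mul_zero]
        · rw [if_neg q, zero_mul]
      have := (Finset.sum_eq_zero_iff_of_nonneg (fun η _ =>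
        mul_nonneg (Int.natCast_nonneg _) (cn_nonneg η 1))).1 e4 ω (Finset.mem_univ ω)
      have hk0 : k ω = 0 := by
        exact_mod_cast (mul_eq_zero.1 this).resolve_right hω.ne'
      have e7 : classInner ω.1 ((Char.conjIrr A).1 * Y.1) = 0 := by
        rw [← Char.conj_classInner, hk' ω, hk0, Nat.cast_zero, map_zero]
      rw [← e7, classInner, classInner]
      congr 1
      refine Finset.sum_congr rfl fun g _ => ?_
      simp only [Pi.mul_apply, Char.conjIrr_apply, map_mul, Complex.conj_conj]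
      ring
    rw [e2, e3, sub_zero, co_mul_irr h.comm, co_mul_irr h.comm] at e1
    have e8 : (m ω : ℤ) = ∑ ν, cn C A ν * cn C ω (μ0 * ν⁻¹) -
        ∑ ν, cn C A ν * cn C ω (μ' * ν⁻¹) := by exact_mod_cast e1
    rw [e8]
    simp only [hχ, ite_mul, one_mul, zero_mul, ← Finset.sum_filter, Finset.filter_univ_mem, hO]
  have hJcard : Even (J.card : ℤ) := by
    have := even_sum_of_involution J (fun ρ => ρ⁻¹) (fun _ => 1)
      (fun ρ hρ => (hmemJ _).2 ((hmemJ _).1 hρ).inv) (fun ρ _ => inv_inv ρ)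
      (fun ρ hρ e1 => h.inv_notMem_orb ((hmemJ _).1 hρ).1 (e1.symm ▸ h.mem_orb_self ρ))
      (fun _ _ => rfl)
    simpa using this
  -- constancy
  have hconst : ∀ ω, 0 < cn C ω 1 → ∀ ρ, h.InJ ρ → ∀ ρ', h.InJ ρ' → cn C ω ρ = cn C ω ρ' := by
    intro ω hω ρ hρ ρ' hρ'
    by_contra hne
    obtain ⟨a, ε, hε, hfam⟩ := h.exists_family ω hρ hρ' hne
    set b := cn C ω 1
    choose X hX hXu using hfam
    set f : (↥C →* ℂˣ) → ℤ := fun ν => if hν : h.InJ ν then (m (X ν hν) : ℤ) else 0 with hf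
    have hev : Even (∑ ν ∈ J, f ν) := by
      refine even_sum_of_involution J (fun ν => ν⁻¹) f (fun ν hν => (hmemJ _).2 ((hmemJ _).1 hν).inv)
        (fun ν _ => inv_inv ν)
        (fun ν hν e1 => h.inv_notMem_orb ((hmemJ _).1 hν).1 (e1.symm ▸ h.mem_orb_self ν))
        fun ν hν => ?_
      have hνJ := (hmemJ _).1 hν
      have hconj : X ν⁻¹ hνJ.inv = Char.conjIrr (X ν hνJ) := by
        refine (hXu _ hνJ.inv _ ⟨?_, fun σ hσ => ?_⟩).symm
        · rw [cn_conjIrr_aux (X ν hνJ) _ (fun g => rfl), hom_one_inv]; exact (hX ν hνJ).1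
        · rw [cn_conjIrr_aux (X ν hνJ) _ (fun g => rfl), (hX ν hνJ).2 _ hσ.inv]
          congr 1
          refine if_congr ⟨fun q => ?_, fun q => ?_⟩ rfl rfl
          · exact hom_inv_inv σ ▸ h.inv_mem_orb_inv q
          · exact hom_inv_inv ν ▸ h.inv_mem_orb_inv q
      simp only [hf, dif_pos hνJ, dif_pos hνJ.inv, hconj]
      have e1 := hm' (Char.conjIrr (X ν hνJ))
      have e2 : classInner ψ (Char.conjIrr (X ν hνJ)).1 = conj (classInner ψ (X ν hνJ).1) := by
        simp only [classInner, map_mul, map_inv₀, map_natCast, map_sum, hψ, Complex.conj_conj,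
          Char.conjIrr_apply]
        congr 1
        exact Finset.sum_congr rfl fun g _ => by ring
      rw [e1, hm', map_natCast] at e2
      exact_mod_cast e2
    have hsum : ∑ ν ∈ J, f ν = (J.card : ℤ) * (b - a) - ε * e := by
      have hterm : ∀ ν ∈ J, f ν = (b - a) +
          ε * ((∑ σ ∈ O.erase μ0, if μ0 * σ⁻¹ ∈ h.orb ν then 1 else 0) -
            ∑ σ ∈ O, if μ' * σ⁻¹ ∈ h.orb ν then 1 else 0) := by
        intro ν hν
        have hνJ := (hmemJ _).1 hν
        simp only [hf, dif_pos hνJ]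
        rw [hkey _ (by rw [(hX ν hνJ).1]; exact hω), ← Finset.add_sum_erase O _ (h.mem_orb_self μ0),
          hom_mul_inv, (hX ν hνJ).1]
        have c1 : ∀ σ ∈ O.erase μ0, cn C (X ν hνJ) (μ0 * σ⁻¹) =
            a + ε * if μ0 * σ⁻¹ ∈ h.orb ν then 1 else 0 := fun σ hσ => by
          rw [(hX ν hνJ).2 _ (hdiff _ (h.mem_orb_self μ0) σ (Finset.mem_of_mem_erase hσ)
            (Finset.ne_of_mem_erase hσ).symm)]
          split_ifs <;> ring
        have c2 : ∀ σ ∈ O, cn C (X ν hνJ) (μ' * σ⁻¹) =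
            a + ε * if μ' * σ⁻¹ ∈ h.orb ν then 1 else 0 := fun σ hσ => by
          rw [(hX ν hνJ).2 _ (hdiff' σ hσ)]
          split_ifs <;> ring
        rw [Finset.sum_congr rfl c1, Finset.sum_congr rfl c2, Finset.sum_add_distrib,
          Finset.sum_add_distrib, Finset.sum_const, Finset.sum_const, ← Finset.mul_sum,
          ← Finset.mul_sum, Finset.card_erase_of_mem (h.mem_orb_self μ0)]
        simp only [nsmul_eq_mul]
        rw [Nat.cast_sub (by omega : 1 ≤ O.card), Nat.cast_one]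
        ring
      have hcount : ∀ σ, h.InJ σ → ∑ ν ∈ J, (if σ ∈ h.orb ν then (1 : ℤ) else 0) = e := by
        intro σ hσ
        rw [← Finset.natCast_card_filter]
        congr 1
        have : J.filter (fun ν => σ ∈ h.orb ν) = h.orb σ := by
          ext ν
          simp only [Finset.mem_filter, hmemJ]
          exact ⟨fun q => (h.orb_eq q.2).symm ▸ h.mem_orb_self ν,
            fun q => ⟨hσ.orb q, (h.orb_eq q).symm ▸ h.mem_orb_self σ⟩⟩
        rw [this]
        exact Nat.eq_of_mul_eq_mul_right Nat.card_pos ((h.card_orb hσ.1).trans (h.card_orb hμ).symm)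
      rw [Finset.sum_congr rfl hterm, Finset.sum_add_distrib, Finset.sum_const, ← Finset.mul_sum,
        Finset.sum_sub_distrib, Finset.sum_comm (s := J) (t := O.erase μ0),
        Finset.sum_comm (s := J) (t := O),
        Finset.sum_congr rfl (fun σ hσ => hcount _ (hdiff _ (h.mem_orb_self μ0) σ
          (Finset.mem_of_mem_erase hσ) (Finset.ne_of_mem_erase hσ).symm)),
        Finset.sum_congr rfl (fun σ hσ => hcount _ (hdiff' σ hσ)), Finset.sum_const, Finset.sum_const,
        Finset.card_erase_of_mem (h.mem_orb_self μ0)]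
      simp only [nsmul_eq_mul]
      rw [Nat.cast_sub (by omega : 1 ≤ O.card), Nat.cast_one]
      ring
    rw [hsum] at hev
    obtain ⟨c, hc⟩ := hev
    obtain ⟨c', hc'⟩ := hJcard
    obtain ⟨c'', hc''⟩ := hodd
    rw [hc', hc''] at hc
    push_cast at hc
    rcases hε with rfl | rfl <;> ring_nf at hc <;> omega
  -- the final count
  have hD : ∀ ω, ω ≠ Char.trivialChar G →
      4 * (e : ℤ) * ((m ω : ℤ) * cn C ω 1) ≤
        3 * ((m ω : ℤ) * ((Char.degree ω : ℤ) - cn C ω 1)) := by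
    intro ω hω
    have hb0 := cn_nonneg (C := C) ω 1
    have hsplit := degree_eq_sum_cn h.comm ω
    rw [← Finset.add_sum_erase _ _ (Finset.mem_univ (1 : ↥C →* ℂˣ))] at hsplit
    have hrest0 : 0 ≤ (Char.degree ω : ℤ) - cn C ω 1 := by
      rw [hsplit, add_sub_cancel_left]
      exact Finset.sum_nonneg fun ρ _ => cn_nonneg ω ρ
    rcases eq_or_ne (m ω) 0 with h0 | h0
    · simp [h0]
    rcases eq_or_lt_of_le hb0 with hb | hb
    · rw [← hb, mul_zero, mul_zero]
      exact mul_nonneg (by norm_num) (mul_nonneg (Int.natCast_nonneg _) (by simpa [← hb] using hrest0))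
    have hm1 : m ω = 1 := by
      have := h.mult_le_one hnb A hμ hχ hm hb
      omega
    set a := cn C ω η with ha
    have haJ : ∀ ρ, h.InJ ρ → cn C ω ρ = a := fun ρ hρ => hconst ω hb ρ hρ η hηJ
    have hb1 : cn C ω 1 = a + 1 := by
      have e1 := hkey ω hb
      rw [hm1, ← Finset.add_sum_erase O _ (h.mem_orb_self μ0), hom_mul_inv,
        Finset.sum_congr rfl (fun σ hσ => haJ _ (hdiff _ (h.mem_orb_self μ0) σ
          (Finset.mem_of_mem_erase hσ) (Finset.ne_of_mem_erase hσ).symm)),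
        Finset.sum_congr rfl (fun σ hσ => haJ _ (hdiff' σ hσ)), Finset.sum_const, Finset.sum_const,
        Finset.card_erase_of_mem (h.mem_orb_self μ0)] at e1
      simp only [nsmul_eq_mul] at e1
      rw [Nat.cast_sub (by omega : 1 ≤ O.card), Nat.cast_one, sub_mul, one_mul] at e1
      linarith
    have hDa : (Char.degree ω : ℤ) - cn C ω 1 = a * J.card := by
      rw [hsplit, add_sub_cancel_left, ← Finset.sum_filter_add_sum_filter_not _ h.InJ,
        Finset.sum_eq_zero (s := (Finset.univ.erase 1).filter fun ρ => ¬ h.InJ ρ) (fun ρ hρ =>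
          hvanish ω h0 ρ (Finset.ne_of_mem_erase (Finset.mem_filter.1 hρ).1)
            (Finset.mem_filter.1 hρ).2), add_zero,
        Finset.sum_congr rfl (fun ρ hρ => haJ ρ (Finset.mem_filter.1 hρ).2), Finset.sum_const,
        nsmul_eq_mul, mul_comm]
      congr 2
      refine congrArg Finset.card ?_
      ext ρ
      simp only [Finset.mem_filter, Finset.mem_erase, Finset.mem_univ, hmemJ, and_true]
      exact ⟨fun q => q.2, fun q => ⟨fun e1 => q.1 (by rw [e1]; rfl), q⟩⟩
    have ha0 : a ≠ 0 := by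
      intro ha0
      apply hω
      rw [ha0, zero_mul, sub_eq_zero] at hDa
      have hker : x0 ∈ CharInt.charKernel (Char.irr_isCharacter ω) := by
        rw [CharInt.mem_charKernel, Char.apply_one_eq_degree]
        have e1 := eq_sum_co h.comm ω.1 h.y0
        rw [show (h.y0 : G) = x0 from rfl] at e1
        rw [e1, Finset.sum_eq_single (1 : ↥C →* ℂˣ), ← cn_spec, ev_one, mul_one]
        · exact_mod_cast hDa.symm
        · intro ρ _ hρ
          rw [← cn_spec]
          have : cn C ω ρ = 0 := by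
            by_cases q : h.InJ ρ
            · rw [haJ ρ q, ha0]
            · exact hvanish ω h0 ρ hρ q
          rw [this, Int.cast_zero, zero_mul]
        · exact fun q => absurd (Finset.mem_univ _) q
      have htop := hgen _ (CharInt.charKernel_normal _) hker
      have hall : ∀ g, ω.1 g = ω.1 1 := fun g => by
        have : g ∈ CharInt.charKernel (Char.irr_isCharacter ω) := htop ▸ Subgroup.mem_top g
        exact this
      by_contra hne
      have e1 := Cfsg.Agent.Char.sum_apply_eq_zero hne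
      rw [Finset.sum_congr rfl (fun g _ => hall g), Finset.sum_const, nsmul_eq_mul, mul_eq_zero] at e1
      exact e1.elim (fun q => Fintype.card_pos.ne' (Nat.cast_eq_zero.1 q))
        (Char.IsIrrCharacter.apply_one_ne_zero ω.2)
    have haJ0 : 0 ≤ a := cn_nonneg ω η
    have ha2 : 2 ≤ a := by
      have hoD : Odd (Char.degree ω : ℤ) := by exact_mod_cast h.odd_degree ω
      obtain ⟨c1, hc1⟩ := hoD
      obtain ⟨c2, hc2⟩ := hJcard
      rw [hb1, hc2, hc1] at hDa
      rcases (by omega : a = 1 ∨ 2 ≤ a) with q | q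
      · rw [q] at hDa; omega
      · exact q
    have hJ2 : 2 * (e : ℤ) ≤ J.card := by
      have hsub : h.orb η ∪ h.orb η⁻¹ ⊆ J := fun σ hσ => by
        rcases Finset.mem_union.1 hσ with q | q
        · exact (hmemJ σ).2 (hηJ.orb q)
        · exact (hmemJ σ).2 (hηJ.inv.orb q)
      have hne : h.orb η ≠ h.orb η⁻¹ := fun q =>
        h.inv_notMem_orb hηJ.1 (q ▸ h.mem_orb_self η⁻¹)
      have hdis : Disjoint (h.orb η) (h.orb η⁻¹) :=
        Finset.disjoint_left.2 fun σ q => h.orb_disjoint hne q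
      have hc := Finset.card_le_card hsub
      rw [Finset.card_union_of_disjoint hdis] at hc
      have c1 : (h.orb η).card = e :=
        Nat.eq_of_mul_eq_mul_right Nat.card_pos ((h.card_orb hηJ.1).trans (h.card_orb hμ).symm)
      have c2 : (h.orb η⁻¹).card = e :=
        Nat.eq_of_mul_eq_mul_right Nat.card_pos ((h.card_orb hηJ.inv.1).trans (h.card_orb hμ).symm)
      omega
    rw [hm1, Nat.cast_one, one_mul, one_mul, hDa, hb1]
    nlinarith [mul_le_mul_of_nonneg_left hJ2 haJ0, Int.natCast_nonneg e]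
  have htriv : m (Char.trivialChar G) = 1 := by
    have e1 := hm' (Char.trivialChar G)
    have e2 : classInner ψ (Char.trivialChar G).1 = classInner A.1 A.1 := by
      simp only [classInner, hψ]
      congr 1
      exact Finset.sum_congr rfl fun g _ => by
        show _ * conj (1 : ℂ) = _
        rw [map_one, mul_one]
    rw [e2, Char.classInner_irr_self A.2] at e1
    exact_mod_cast e1.symm
  have htrivb : cn C (Char.trivialChar G) 1 = 1 := by
    have e1 : co C (Char.trivialChar G).1 (1 : ↥C →* ℂˣ) = 1 := by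
      rw [co, show (fun x : ↥C => (Char.trivialChar G).1 x) = ev (1 : ↥C →* ℂˣ) from
        funext fun x => (ev_one x).symm, inner_ev, if_pos rfl]
    rw [← cn_spec] at e1
    exact_mod_cast e1
  have htrivD : (Char.degree (Char.trivialChar G) : ℤ) = 1 := by
    have e1 := Char.apply_one_eq_degree (Char.trivialChar G)
    have e2 : (Char.trivialChar G).1 1 = 1 := rfl
    rw [e2] at e1
    exact_mod_cast e1.symm
  have hdegsum : ∑ ω, (m ω : ℤ) * Char.degree ω = (e : ℤ) ^ 2 := by
    have e1 := congrFun hm 1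
    simp only [hψ, Finset.sum_apply, Pi.smul_apply, smul_eq_mul, Char.apply_one_eq_degree,
      map_natCast] at e1
    rw [pow_two, ← hdeg]
    exact_mod_cast e1.symm
  have hfin := Finset.sum_le_sum (s := Finset.univ.erase (Char.trivialChar G))
    fun ω hω => hD ω (Finset.ne_of_mem_erase hω)
  rw [← Finset.mul_sum, ← Finset.mul_sum] at hfin
  have s1 : ∑ ω ∈ Finset.univ.erase (Char.trivialChar G), (m ω : ℤ) * cn C ω 1 = (e : ℤ) - 1 := by
    rw [Finset.sum_erase_eq_sub (Finset.mem_univ _), hψone, htriv, htrivb]; norm_num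
  have s2 : ∑ ω ∈ Finset.univ.erase (Char.trivialChar G),
      (m ω : ℤ) * ((Char.degree ω : ℤ) - cn C ω 1) = (e : ℤ) ^ 2 - e := by
    simp only [mul_sub, Finset.sum_sub_distrib]
    rw [Finset.sum_erase_eq_sub (Finset.mem_univ _), Finset.sum_erase_eq_sub (Finset.mem_univ _),
      hdegsum, hψone, htriv, htrivb, htrivD]
    ring
  rw [s1, s2] at hfin
  have he2 : (2 : ℤ) ≤ e := by exact_mod_cast he
  nlinarith

end Cfsg.Agent.OddLinear
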