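import Cfsg.Agent.Lib.OddLinear.Degree

/-!
# Multiplicities in `χ χ̄` of characters with a fixed point on `C` are at most one
-/

set_option autoImplicit false
set_option linter.style.haveILetI false
set_option linter.unusedSectionVars false

namespace Cfsg.Agent.OddLinear

open Finset
open scoped ComplexConjugate Classical

universe u

variable {G : Type u} [Group G] {C N : Subgroup G} {x0 : G} {p : ℕ}
  [Fintype G] [Fintype ↥C] [Fintype ↥N]

theorem sum_subgroupOf (hle : C ≤ N) [Fintype ↥(C.subgroupOf N)] (f : G → ℂ) :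
    ∑ k : ↥(C.subgroupOf N), f ((k : ↥N) : G) = ∑ x : ↥C, f x :=
  Fintype.sum_equiv (Subgroup.subgroupOfEquivOfLe hle).toEquiv _ _ fun _ => rfl

theorem Ctx.subgroupOf_normal (h : Ctx C N x0 p) : (C.subgroupOf N).Normal :=
  ⟨fun k hk g => by
    rw [Subgroup.mem_subgroupOf] at hk ⊢
    have := h.conj_mem (g : G)⁻¹ (inv_mem g.2) _ hk
    simpa using this⟩

/-- The norm of the restriction to `N` of a character with a single orbit on `C`. -/
theorem Ctx.norm_restrict (h : Ctx C N x0 p) (χ : IrrCharacter G) {μ0 : ↥C →* ℂˣ}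
    (hμ : μ0 h.y0 ≠ 1) (hχ : ∀ ρ, cn C χ ρ = if ρ ∈ h.orb μ0 then 1 else 0) :
    classInner (fun n : ↥N => χ.1 n) (fun n : ↥N => χ.1 n) = 1 := by
  haveI := h.subgroupOf_normal
  set K := C.subgroupOf N with hK
  set eC := Subgroup.subgroupOfEquivOfLe h.le
  set μK : ↥K → ℂ := fun k => ev μ0 (eC k) with hμK
  set I := indFun K μK with hI
  have hIchar : IsCharacter ↥N I := Char.isCharacter_indFun K (Char.IsIrrCharacter.isCharacter
    (Char.isIrrCharacter_of_monoidHom (((Units.coeHom ℂ).comp μ0).comp eC.toMonoidHom)))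
  have hcardK : Nat.card ↥K = Nat.card ↥C := Nat.card_congr eC.toEquiv
  have hIK : ∀ k : ↥K, I k = (Nat.card ↥C : ℂ)⁻¹ * ∑ n : ↥N, ev (μ0.comp (h.cj n)) (eC k) := by
    intro k
    rw [hI, indFun, hcardK]
    congr 1
    refine Finset.sum_congr rfl fun n _ => ?_
    have hk' : n⁻¹ * (k : ↥N) * n ∈ K := by
      have := Subgroup.Normal.conj_mem ‹K.Normal› _ k.2 n⁻¹
      simpa using this
    rw [Char.extendByZero_of_mem _ _ hk', hμK]
    exact congrArg (ev μ0) (Subtype.ext rfl)
  have hfix : (Finset.univ.filter fun n : ↥N => μ0.comp (h.cj n) = μ0).card = Nat.card ↥C := by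
    rw [Nat.card_eq_fintype_card, ← Finset.card_univ]
    refine (Finset.card_bij (fun (c : ↥C) _ => (⟨c, h.le c.2⟩ : ↥N)) (fun c _ =>
      Finset.mem_filter.2 ⟨Finset.mem_univ _, h.comp_cj_of_mem μ0 c.2⟩)
      (fun a _ b _ e => Subtype.ext (congrArg Subtype.val e :))
      fun n hn => ⟨⟨n, h.mem_of_fix hμ (DFunLike.congr_fun (Finset.mem_filter.1 hn).2 h.y0)⟩,
        Finset.mem_univ _, rfl⟩).symm
  have hII : classInner I I = 1 := by
    rw [hI, Char.classInner_indFun_right K μK (Char.isClassFunction_indFun K μK), ← hI]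
    have e1 : (fun k : ↥K => I (k : ↥N)) =
        ∑ n : ↥N, (Nat.card ↥C : ℂ)⁻¹ • fun k : ↥K => ev (μ0.comp (h.cj n)) (eC k) := by
      funext k; rw [hIK, Finset.sum_apply, Finset.mul_sum]; rfl
    rw [e1, Char.classInner_sum_left]
    have e2 : ∀ ν : ↥C →* ℂˣ, classInner (fun k : ↥K => ev ν (eC k)) μK =
        if ν = μ0 then 1 else 0 := fun ν => by
      rw [← inner_ev ν μ0, classInner, classInner, hcardK]
      congr 1
      exact Fintype.sum_equiv eC.toEquiv _ _ fun _ => rfl
    simp only [Char.classInner_smul_left, e2, mul_ite, mul_one, mul_zero]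
    rw [← Finset.sum_filter, Finset.sum_const, hfix, nsmul_eq_mul,
      mul_inv_cancel₀ (Nat.cast_ne_zero.2 Nat.card_pos.ne')]
  have hIirr : IsIrrCharacter ↥N I := Char.isIrrCharacter_iff.2 ⟨hIchar, hII⟩
  have hχN : IsCharacter ↥N (fun n : ↥N => χ.1 n) :=
    Char.IsCharacter.restrict (Char.irr_isCharacter χ) N
  have hχI : classInner (fun n : ↥N => χ.1 n) I = 1 := by
    rw [hI, Char.classInner_indFun_right K μK (Char.IsCharacter.isClassFunction hχN)]
    have e : cn C χ μ0 = 1 := by rw [hχ, if_pos (h.mem_orb_self μ0)]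
    have e' := cn_spec (C := C) χ μ0
    rw [e, Int.cast_one] at e'
    rw [e', co, classInner, classInner, hcardK]
    congr 1
    exact Fintype.sum_equiv eC.toEquiv _ _ fun _ => rfl
  obtain ⟨m, hm, hm'⟩ := Char.IsCharacter.exists_decomp hχN
  set Ii : IrrCharacter ↥N := ⟨I, hIirr⟩
  have hmI : m Ii = 1 := by
    have := hm' Ii
    rw [hχI] at this
    exact_mod_cast this.symm
  have hI1 : I 1 = (Char.degree χ : ℂ) := by
    rw [hI, Char.indFun_apply_one, hμK]
    simp only [map_one, ev_apply_one, mul_one]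
    have hcl := co_apply_one h.comm χ.1
    rw [Char.apply_one_eq_degree] at hcl
    simp only [← cn_spec, hχ, Int.cast_ite, Int.cast_one, Int.cast_zero, Finset.sum_boole,
      Finset.filter_univ_mem] at hcl
    rw [hcl]
    have e := h.card_orb hμ
    have e2 : K.index * Nat.card ↥K = Nat.card ↥N := K.index_mul_card
    rw [hcardK, ← e] at e2
    exact_mod_cast Nat.eq_of_mul_eq_mul_right Nat.card_pos e2
  have hzero : ∀ θ : IrrCharacter ↥N, θ ≠ Ii → m θ = 0 := by
    intro θ hθ
    have e := congrFun hm 1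
    simp only [Subgroup.coe_one, Char.apply_one_eq_degree, Finset.sum_apply, Pi.smul_apply,
      smul_eq_mul] at e
    rw [← hI1, show I 1 = (Char.degree Ii : ℂ) from Char.apply_one_eq_degree Ii] at e
    have e' : Char.degree Ii = ∑ η : IrrCharacter ↥N, m η * Char.degree η := by exact_mod_cast e
    rw [← Finset.add_sum_erase _ _ (Finset.mem_univ Ii), hmI, one_mul] at e'
    have h0 : ∑ η ∈ Finset.univ.erase Ii, m η * Char.degree η = 0 := by omega
    exact (mul_eq_zero.1 (Finset.sum_eq_zero_iff.1 h0 θ (Finset.mem_erase.2 ⟨hθ,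
      Finset.mem_univ _⟩))).resolve_right (Char.degree_pos θ).ne'
  have heq : (fun n : ↥N => χ.1 n) = I := by
    rw [hm, Finset.sum_eq_single Ii (fun θ _ hθ => by rw [hzero θ hθ, Nat.cast_zero, zero_smul])
      (fun hne => absurd (Finset.mem_univ Ii) hne), hmI, Nat.cast_one, one_smul]
  rw [heq, hII]

/-- The multiplicity bound. -/
theorem Ctx.mult_le_one (h : Ctx C N x0 p)
    (hnb : ∀ a ∈ N, ∀ b ∈ N, a⁻¹ * b⁻¹ * a * b ∈ C) (χ : IrrCharacter G) {μ0 : ↥C →* ℂˣ}
    (hμ : μ0 h.y0 ≠ 1) (hχ : ∀ ρ, cn C χ ρ = if ρ ∈ h.orb μ0 then 1 else 0)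
    {m : IrrCharacter G → ℕ} (hm : (fun g => χ.1 g * conj (χ.1 g)) = ∑ ω, (m ω : ℂ) • ω.1)
    {ω : IrrCharacter G} (hω : 0 < cn C ω 1) : m ω ≤ 1 := by
  haveI := h.subgroupOf_normal
  set K := C.subgroupOf N with hK
  haveI : Fintype (↥N ⧸ K) := Fintype.ofFinite _
  have hQ : ∀ a b : ↥N ⧸ K, a * b = b * a := by
    intro a b
    induction a using QuotientGroup.induction_on with
    | _ a =>
      induction b using QuotientGroup.induction_on with
      | _ b =>
        rw [← QuotientGroup.mk_mul, ← QuotientGroup.mk_mul, QuotientGroup.eq, hK,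
          Subgroup.mem_subgroupOf]
        have := hnb _ b.2 _ a.2
        simpa [mul_assoc, mul_inv_rev] using this
  set l : IrrCharacter (↥N ⧸ K) → ↥N → ℂ := fun β n => β.1 (QuotientGroup.mk' K n) with hl
  have hsum : ∀ n : ↥N, ∑ β, l β n = if (n : G) ∈ C then (Nat.card (↥N ⧸ K) : ℂ) else 0 := by
    intro n
    have e := Char.sum_irr_degree_mul (QuotientGroup.mk' K n)
    simp only [Char.apply_one_of_comm hQ, one_mul] at e
    rw [hl]
    dsimp only
    rw [e]
    simp only [QuotientGroup.mk'_apply, QuotientGroup.eq_one_iff, hK, Subgroup.mem_subgroupOf]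
  have htot : ∑ β, classInner (fun n : ↥N => ω.1 n) (l β) = (cn C ω 1 : ℂ) := by
    rw [← Char.classInner_sum_right, cn_spec, classInner, co, classInner]
    have e1 : ∀ n : ↥N, (∑ β, l β) n = if (n : G) ∈ C then (Nat.card (↥N ⧸ K) : ℂ) else 0 :=
      fun n => by rw [Finset.sum_apply]; exact hsum n
    simp only [e1, apply_ite (starRingEnd ℂ), map_natCast, map_zero, mul_ite, mul_zero]
    rw [← Finset.sum_filter]
    have e2 : ∑ n ∈ Finset.univ.filter (fun n : ↥N => (n : G) ∈ C), ω.1 n * (Nat.card (↥N ⧸ K) : ℂ)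
        = (Nat.card (↥N ⧸ K) : ℂ) * ∑ x : ↥C, ω.1 x := by
      rw [Finset.mul_sum]
      refine Finset.sum_bij (fun n hn => (⟨(n : G), (Finset.mem_filter.1 hn).2⟩ : ↥C))
        (fun n hn => Finset.mem_univ _) (fun a _ b _ hab => Subtype.ext (congrArg Subtype.val hab :))
        (fun x _ => ⟨⟨x, h.le x.2⟩, Finset.mem_filter.2 ⟨Finset.mem_univ _, x.2⟩, rfl⟩)
        fun n hn => mul_comm _ _
    rw [e2]
    have e3 : (Nat.card ↥N : ℂ) = (Nat.card (↥N ⧸ K) : ℂ) * Nat.card ↥C := by
      rw [← Nat.cast_mul, ← Nat.card_congr (Subgroup.subgroupOfEquivOfLe h.le).toEquiv,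
        ← Subgroup.card_eq_card_quotient_mul_card_subgroup K]
    simp only [ev_one, map_one, mul_one]
    rw [e3, mul_inv_rev, mul_assoc, ← mul_assoc ((Nat.card (↥N ⧸ K) : ℂ))⁻¹,
      inv_mul_cancel₀ (Nat.cast_ne_zero.2 Nat.card_pos.ne'), one_mul]
  have hlchar : ∀ β, IsCharacter ↥N (l β) := fun β =>
    Char.IsCharacter.comp (Char.irr_isCharacter β) (QuotientGroup.mk' K)
  obtain ⟨β, hβ⟩ : ∃ β, classInner (fun n : ↥N => ω.1 n) (l β) ≠ 0 := by
    by_contra hcon
    push Not at hcon
    rw [Finset.sum_eq_zero fun β _ => hcon β] at htot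
    have : cn C ω 1 = 0 := by exact_mod_cast htot.symm
    omega
  choose k hk using fun η : IrrCharacter G => Char.IsCharacter.exists_nat_classInner
    (Char.IsCharacter.restrict (Char.irr_isCharacter η) N) (hlchar β)
  have hk0 : k ω ≠ 0 := fun e => hβ (by
    have := hk ω; rw [e, Nat.cast_zero] at this; exact this)
  have hψ : classInner (fun n : ↥N => χ.1 n * conj (χ.1 n)) (l β) =
      ((∑ η, m η * k η : ℕ) : ℂ) := by
    rw [show (fun n : ↥N => χ.1 n * conj (χ.1 n)) = ∑ η, (m η : ℂ) • fun n : ↥N => η.1 n from by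
      funext n; rw [Finset.sum_apply]; simpa [Finset.sum_apply] using congrFun hm (n : G),
      Char.classInner_sum_left]
    push_cast
    exact Finset.sum_congr rfl fun η _ => by
      rw [Char.classInner_smul_left]; congr 1; exact hk η
  have hbound : ‖classInner (fun n : ↥N => χ.1 n * conj (χ.1 n)) (l β)‖ ≤ 1 := by
    have h1 := h.norm_restrict χ hμ hχ
    rw [classInner] at h1 ⊢
    rw [norm_mul]
    have hn1 : ∀ n : ↥N, ‖conj (l β n)‖ ≤ 1 := fun n => by
      have := CharInt.norm_char_le (Char.irr_isCharacter β) (QuotientGroup.mk' K n)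
      rw [Char.apply_one_of_comm hQ, norm_one] at this
      rwa [RCLike.norm_conj]
    refine le_of_le_of_eq (mul_le_mul_of_nonneg_left (norm_sum_le _ _) (norm_nonneg _)) rfl
      |>.trans ?_
    refine (mul_le_mul_of_nonneg_left (Finset.sum_le_sum fun n _ => ?_)
      (norm_nonneg _)).trans (le_of_eq (?_ : ‖((Nat.card ↥N : ℂ))⁻¹‖ *
        ∑ n : ↥N, ‖χ.1 n * conj (χ.1 n)‖ = 1))
    · rw [norm_mul]
      exact mul_le_of_le_one_right (norm_nonneg _) (hn1 n)
    · simp only [Complex.mul_conj, Complex.norm_real, norm_inv, Complex.norm_natCast,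
        Real.norm_eq_abs, abs_of_nonneg (Complex.normSq_nonneg _)]
      simp only [Complex.mul_conj] at h1
      rw [← Complex.ofReal_natCast, ← Complex.ofReal_inv, ← Complex.ofReal_sum,
        ← Complex.ofReal_mul] at h1
      exact_mod_cast h1
  rw [hψ, Complex.norm_natCast] at hbound
  have hle : m ω * k ω ≤ 1 := le_trans (Finset.single_le_sum
    (f := fun η => m η * k η) (fun η _ => Nat.zero_le _) (Finset.mem_univ ω))
    (by exact_mod_cast hbound)
  exact le_trans (Nat.le_mul_of_pos_right _ (Nat.pos_of_ne_zero hk0)) hle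

end Cfsg.Agent.OddLinear
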